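import Cfsg.Agent.J4Type.Five.Parts
import Cfsg.Agent.J4Type.Orbits.Bridge
import Cfsg.Agent.J4Type.FusionMain

/-!
# The local structure at a subgroup of order five
-/

set_option autoImplicit false

open Cfsg Subgroup

namespace Cfsg.Agent.J4Type.Five

universe u

variable {G : Type u} [Group G]

/-- The conclusion at a subgroup `Q` of order five. -/
def Local (Q : Subgroup G) : Prop :=
  (∃ J : Subgroup G, IsInternalDirectProduct Q J (centralizer (Q : Set G)) ∧
    ∃ (E : Subgroup ↥J) (_ : E.Normal), IsElementaryAbelian 2 E ∧ Nat.card ↥E = 8 ∧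
      Nonempty (↥J ⧸ E ≃* Matrix.SpecialLinearGroup (Fin 3) (ZMod 2)) ∧
        ∀ K : Subgroup ↥J, ¬ E.IsComplement' K) ∧
    (∃ R : Subgroup G, Q ≤ R ∧ R ≤ normalizer (Q : Set G) ∧ Nat.card ↥R = 20 ∧
      R ⊓ centralizer (Q : Set G) = Q) ∧
    Nat.card ↥(normalizer (Q : Set G)) = 2 ^ 8 * 3 * 5 * 7

theorem map_cent (e : G ≃* G) (Q : Subgroup G) :
    (centralizer (Q : Set G)).map e.toMonoidHom = centralizer (Q.map e.toMonoidHom : Set G) := by
  ext x
  simp only [mem_map_equiv, mem_centralizer_iff, SetLike.mem_coe]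
  constructor
  · intro h w hw
    have := congrArg e (h (e.symm w) hw)
    simpa using this
  · intro h w hw
    have := congrArg e.symm (h (e w) (by simpa using hw))
    simpa using this

theorem Local.transport {Q : Subgroup G} (h : Local Q) (e : G ≃* G) :
    Local (Q.map e.toMonoidHom) := by
  obtain ⟨⟨J, ⟨h1, h2, h3, h4, h5⟩, E, hE, ⟨⟨⟨hc⟩⟩, hsq⟩, h8, ⟨φ⟩, hK⟩, ⟨R, hQR, hRN, hR20, hRC⟩, hN⟩ := h
  have hinj : Function.Injective e.toMonoidHom := e.injective
  refine ⟨⟨J.map e.toMonoidHom, ⟨?_, ?_, ?_, ?_, ?_⟩, ?_⟩, ⟨R.map e.toMonoidHom, map_mono hQR, ?_, ?_, ?_⟩, ?_⟩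
  · rw [← map_cent]; exact map_mono h1
  · rw [← map_cent]; exact map_mono h2
  · rintro _ ⟨a, ha, rfl⟩ _ ⟨b, hb, rfl⟩
    rw [← map_mul, h3 a ha b hb, map_mul]
  · rw [← map_inf _ _ _ hinj, h4, Subgroup.map_bot]
  · rw [← Subgroup.map_sup, h5, map_cent]
  · set ψ : ↥J ≃* ↥(J.map e.toMonoidHom) := J.equivMapOfInjective e.toMonoidHom hinj with hψ
    have hn : (E.map (ψ : ↥J →* ↥(J.map e.toMonoidHom))).Normal := hE.map _ ψ.surjective
    refine ⟨E.map (ψ : ↥J →* ↥(J.map e.toMonoidHom)), hn, ⟨⟨⟨?_⟩⟩, ?_⟩, ?_, ⟨(QuotientGroup.congr E (E.map (ψ : ↥J →* ↥(J.map e.toMonoidHom))) ψ rfl).symm.trans φ⟩, ?_⟩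
    · rintro ⟨_, a, ha, rfl⟩ ⟨_, b, hb, rfl⟩
      have := congrArg Subtype.val (hc ⟨a, ha⟩ ⟨b, hb⟩)
      refine Subtype.ext ?_
      show ψ a * ψ b = ψ b * ψ a
      rw [← map_mul, ← map_mul]
      exact congrArg ψ this
    · rintro _ ⟨a, ha, rfl⟩
      rw [← map_pow, hsq a ha, map_one]
    · rw [card_map_of_injective ψ.injective, h8]
    · intro K hKc
      refine hK (K.map ψ.symm.toMonoidHom) ?_
      refine isComplement'_of_disjoint_and_mul_eq_univ ?_ ?_
      · rw [disjoint_iff, eq_bot_iff_forall]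
        rintro w ⟨hwE, k, hk, rfl⟩
        have hm : k ∈ E.map (ψ : ↥J →* ↥(J.map e.toMonoidHom)) ⊓ K :=
          ⟨⟨ψ.symm k, hwE, ψ.apply_symm_apply k⟩, hk⟩
        rw [hKc.disjoint.eq_bot, mem_bot] at hm
        subst hm
        exact map_one _
      · refine Set.eq_univ_of_forall fun w => ?_
        obtain ⟨⟨a, b⟩, hab⟩ := hKc.2 (ψ w)
        obtain ⟨a', ha', hae⟩ := a.2
        refine ⟨a', ha', ψ.symm b, ⟨b, b.2, rfl⟩, ?_⟩
        apply ψ.injective
        show ψ (a' * ψ.symm b) = ψ w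
        rw [map_mul, ψ.apply_symm_apply, ← hab]
        exact congrArg (· * (b : ↥(J.map e.toMonoidHom))) hae
  · rw [← map_equiv_normalizer_eq]; exact map_mono hRN
  · rw [card_map_of_injective hinj, hR20]
  · rw [← map_cent, ← map_inf _ _ _ hinj, hRC]
  · rw [← map_equiv_normalizer_eq, card_map_of_injective hinj, hN]

variable [Finite G] {z : G} {P : Subgroup G} {V : Type*} [AddCommGroup V]
  {π : ↥(LargeExtra.oc z) →* Multiplicative V} {ρ : ↥(mSub z P) →* Equiv.Perm V} {q : V → ZMod 2}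
  {B : List V} {y : G} {η : Equiv.Perm V}

theorem Ctx.local_y (C : Ctx z P π ρ q B y η) : Local (zpowers y) := by
  obtain ⟨J, hd, hJ5, hcard⟩ := C.exists_J
  obtain ⟨hn, hel, h8, hiso⟩ := C.exists_eight_quot hd hJ5 hcard
  refine ⟨⟨J, by rw [C.cent_zpowers]; exact hd, C.eight.subgroupOf J, hn, hel, h8, hiso,
    fun K => C.no_complement hd hJ5 (hn := hn) K⟩, C.exists_R, C.card_normalizer⟩

/-- An element of order five of `N_H(P)` acting as `Ym`. -/
theorem exists_ctx (D : ActData z P π ρ q) (hM : Orbits.Model B ρ.range (gammaZero ρ) q)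
    (hc : ∃ u, Conf z u) : ∃ (y : G) (η : Equiv.Perm V), Ctx z P π ρ q B y η := by
  obtain ⟨η, hη⟩ := hM.ex Rep.Ym (by simp [Orbits.allGens])
  have hΓ : η ∈ ρ.range := by
    rw [hM.gen]
    exact subset_closure ⟨Rep.Ym, by simp [Orbits.allGens], hη⟩
  obtain ⟨⟨m, hm⟩, hmη⟩ := hΓ
  have ha : act ρ m = η := by rw [act_of_mem hm]; exact hmη
  have h5 : η ^ 5 = 1 := by
    refine hM.acts_eq (δ := 1) ((?_ : Orbits.PActs B (η ^ 5)
      (Orbits.comp Rep.Ym (Orbits.comp Rep.Ym (Orbits.comp Rep.Ym (Orbits.comp Rep.Ym Rep.Ym)))))) ?_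
    · rw [show η ^ 5 = η * (η * (η * (η * η))) by simp only [pow_succ, pow_zero, one_mul, mul_assoc]]
      exact hη.mul (hη.mul (hη.mul (hη.mul hη)))
    · have e : Orbits.comp Rep.Ym (Orbits.comp Rep.Ym (Orbits.comp Rep.Ym
        (Orbits.comp Rep.Ym Rep.Ym))) = Orbits.idM := by decide +kernel
      rw [e]; exact hM.acts_idM
  have hpow : ∀ k : ℕ, act ρ (m ^ k) = η ^ k := by
    intro k
    induction k with
    | zero => rw [pow_zero, pow_zero, act_one]
    | succ k ih => rw [pow_succ, pow_succ, act_mul (pow_mem hm k) hm, ih, ha]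
  have hy5 : (m ^ 6) ^ 5 = 1 := by
    rw [← pow_mul, show 6 * 5 = 5 * (2 * 3) by norm_num, pow_mul, pow_mul]
    rcases (D.act_eq_one (pow_mem hm 5)).1 (by rw [hpow, h5]) with h | h <;> rw [h]
    · simp
    · rw [pow_two, D.zz, one_pow]
  have hact : act ρ (m ^ 6) = η := by rw [hpow, pow_succ, h5, one_mul]
  have hne : m ^ 6 ≠ 1 := fun h => by
    rw [h, act_one] at hact
    have e : Rep.Ym = Orbits.idM := hM.code_unique (hact ▸ hη) hM.acts_idM (by decide +kernel)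
      Orbits.good_idM
    exact absurd e (by decide +kernel)
  have : Fact (Nat.Prime 5) := ⟨by norm_num⟩
  exact ⟨m ^ 6, η, D, hM, hc, pow_mem hm 6, hact, orderOf_eq_prime hy5 hne, hη⟩

/-- **The local structure at a subgroup of order five of `C(z)`.** -/
theorem Ctx.main (C : Ctx z P π ρ q B y η) (Q : Subgroup G) (hQ : Nat.card ↥Q = 5)
    (hQz : Q ≤ centralizer ({z} : Set G)) : ¬ 25 ∣ Nat.card G ∧ Local Q := by
  refine ⟨C.not_25, ?_⟩
  have : Fact (Nat.Prime 5) := ⟨by norm_num⟩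
  have : IsCyclic ↥Q := isCyclic_of_prime_card hQ
  obtain ⟨⟨x, hx⟩, hgen⟩ := IsCyclic.exists_generator (α := ↥Q)
  have hx5 : orderOf x = 5 := by
    rw [← Subgroup.orderOf_mk x hx, orderOf_eq_card_of_forall_mem_zpowers hgen, hQ]
  have hQx : Q = zpowers x := (eq_of_le_of_card_ge (zpowers_le.2 hx)
    (by rw [Nat.card_zpowers, hx5, hQ])).symm
  obtain ⟨h, hh, hy⟩ := C.five_conj (hQz hx) hx5
  have e : zpowers (h * x * h⁻¹) = zpowers y := eq_of_le_of_card_ge (zpowers_le.2 hy) (by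
    rw [Nat.card_zpowers, Nat.card_zpowers, C.yfive, ← MulAut.conj_apply, MulEquiv.orderOf_eq, hx5])
  have := C.local_y.transport (MulAut.conj h⁻¹)
  rw [← e, MonoidHom.map_zpowers] at this
  rw [hQx]
  convert this using 2
  simp [mul_assoc]

end Cfsg.Agent.J4Type.Five
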