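import Cfsg.Agent.J4Type.Orbits.Code

/-! Generated: data for the centraliser of an element of order five. -/

set_option autoImplicit false
set_option maxRecDepth 20000

namespace Cfsg.Agent.J4Type.Five

/-- The fixed codes of `Ym`. -/
def fixL : List ℕ := [0, 1, 570, 571, 1024, 1025, 1594, 1595, 2048, 2049, 2618, 2619, 3072, 3073, 3642, 3643]

/-- The line: zero and the three short points of the fixed space of `Ym`. -/
def lineL : List ℕ := [0, 1025, 2618, 3643]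

/-- A word taking the base point to the first point of the line. -/
def wordG : List ℕ := [0, 2, 0, 2, 0, 2, 0, 0]

/-- A word for the inverse. -/
def wordGi : List ℕ := [0, 0, 0, 0, 0, 0, 0, 0, 0, 0, 0, 0, 0, 0, 0, 0, 0, 0, 0, 0, 2, 2, 2, 0, 0, 0, 0, 0, 0, 0, 0, 0, 0, 2, 2, 2, 0, 0, 0, 0, 0, 0, 0, 0, 0, 0, 2, 2, 2, 0, 0, 0, 0, 0, 0, 0, 0, 0, 0]

/-- Words taking each point of the line to the base point. -/
def moveW : List (ℕ × List ℕ) := [(1025, [0, 0, 0, 0, 0, 0, 0, 0, 0, 0, 0, 0, 0, 0, 0, 0, 0, 0, 0, 0, 2, 2, 2, 0, 0, 0, 0, 0, 0, 0, 0, 0, 0, 2, 2, 2, 0, 0, 0, 0, 0, 0, 0, 0, 0, 0, 2, 2, 2, 0, 0, 0, 0, 0, 0, 0, 0, 0, 0]), (2618, [0, 0, 0, 0, 0, 0, 0, 0, 0, 0, 0, 0, 0, 0, 0, 0, 0, 0, 0, 0, 2, 2, 2, 0, 0, 0, 0, 0, 0, 0, 0, 0, 0, 2, 2, 2, 0, 0, 0, 0, 0, 0, 0, 0, 0, 0, 2, 2, 2, 0, 0, 0, 0, 0, 0, 0, 0, 0, 0, 0, 1, 2, 0, 1, 2, 0, 1, 2, 0, 1, 2, 0,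 1, 2, 0, 1, 2, 0, 1, 2, 0, 1, 2, 0, 1, 2, 0, 1, 2, 0, 1, 2, 0, 1, 2, 0, 1, 2, 0, 1, 2, 0, 1, 2, 0, 1, 2, 0, 1, 2, 0, 1, 2, 0, 1, 2, 0, 1, 2]), (3643, [0, 0, 0, 0, 0, 0, 0, 0, 0, 0, 0, 0, 0, 0, 0, 0, 0, 0, 0, 0, 2, 2, 2, 0, 0, 0, 0, 0, 0, 0, 0, 0, 0, 2, 2, 2, 0, 0, 0, 0, 0, 0, 0, 0, 0, 0, 2, 2, 2, 0, 0, 0, 0, 0, 0, 0, 0, 0, 0, 0, 1, 2, 0, 1, 2, 0, 1, 2, 0, 1, 2, 0, 1, 2, 0, 1, 2, 0, 1, 2, 0, 1, 2, 0, 1, 2, 0, 1, 2])]

/-- The elements of the group commuting with `Ym`. -/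
def centY : List (List ℕ) := [[1, 2, 4, 8, 16, 32, 64, 128, 256, 512, 1024, 2048],
  [1, 1023, 512, 256, 128, 64, 32, 16, 8, 4, 1024, 3072],
  [570, 907, 233, 466, 932, 183, 366, 732, 583, 881, 2048, 3072],
  [570, 285, 881, 583, 732, 366, 183, 932, 466, 233, 2048, 1024],
  [571, 905, 237, 474, 948, 151, 302, 604, 839, 369, 3072, 1024],
  [571, 738, 369, 839, 604, 302, 151, 948, 474, 237, 3072, 2048],
  [1, 16, 256, 2, 32, 512, 4, 64, 1023, 8, 1024, 2048],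
  [1, 128, 8, 1023, 64, 4, 512, 32, 2, 256, 1024, 3072],
  [570, 932, 583, 907, 183, 881, 233, 366, 285, 466, 2048, 3072],
  [570, 732, 466, 285, 366, 233, 881, 183, 907, 583, 2048, 1024],
  [571, 948, 839, 905, 151, 369, 237, 302, 738, 474, 3072, 1024],
  [571, 604, 474, 738, 302, 237, 369, 151, 905, 839, 3072, 2048],
  [1, 32, 1023, 16, 512, 8, 256, 4, 128, 2, 1024, 2048],
  [1, 64, 2, 128, 4, 256, 8, 512, 16, 1023, 1024, 3072],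
  [570, 183, 285, 932, 881, 466, 583, 233, 732, 907, 2048, 3072],
  [570, 366, 907, 732, 233, 583, 466, 881, 932, 285, 2048, 1024],
  [571, 151, 738, 948, 369, 474, 839, 237, 604, 905, 3072, 1024],
  [571, 302, 905, 604, 237, 839, 474, 369, 948, 738, 3072, 2048],
  [1, 512, 128, 32, 8, 2, 1023, 256, 64, 16, 1024, 2048],
  [1, 4, 16, 64, 256, 1023, 2, 8, 32, 128, 1024, 3072],
  [570, 881, 732, 183, 466, 907, 285, 583, 366, 932, 2048, 3072],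
  [570, 233, 932, 366, 583, 285, 907, 466, 183, 732, 2048, 1024],
  [571, 369, 604, 151, 474, 905, 738, 839, 302, 948, 3072, 1024],
  [571, 237, 948, 302, 839, 738, 905, 474, 151, 604, 3072, 2048],
  [1, 8, 64, 512, 2, 16, 128, 1023, 4, 32, 1024, 2048],
  [1, 256, 32, 4, 1023, 128, 16, 2, 512, 64, 1024, 3072],
  [570, 466, 366, 881, 907, 932, 732, 285, 233, 183, 2048, 3072],
  [570, 583, 183, 233, 285, 732, 932, 907, 881, 366, 2048, 1024],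
  [571, 474, 302, 369, 905, 948, 604, 738, 237, 151, 3072, 1024],
  [571, 839, 151, 237, 738, 604, 948, 905, 369, 302, 3072, 2048]]

end Cfsg.Agent.J4Type.Five
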