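import Cfsg.Agent.J4Type.Five.Norm
import Cfsg.Agent.Invol.ZStar
import Cfsg.Agent.S4412

/-!
# The centraliser of an element of order five
-/

set_option autoImplicit false

open Cfsg Subgroup

namespace Cfsg.Agent.J4Type.Five

open LargeExtra (oc oc_le oc_conj_mem)

universe u

variable {G : Type u} [Group G] [Finite G]
variable {z : G} {P : Subgroup G} {V : Type*} [AddCommGroup V]
  {π : ↥(oc z) →* Multiplicative V} {ρ : ↥(mSub z P) →* Equiv.Perm V} {q : V → ZMod 2} {B : List V}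
  {y : G} {η : Equiv.Perm V}

namespace Ctx

variable (C : Ctx z P π ρ q B y η)
include C

theorem zcomm {e : G} (he : e ∈ C.eight) : Commute e z := C.D.comm_z (oc_le z he.1)

/-- Any element commuting with `y` and a non-trivial element of the group of order eight lies in `N₈`. -/
theorem cent_le_nEight {e x : G} (he : e ∈ C.eight) (h1 : e ≠ 1) (hy : Commute x y) (hxe : Commute x e) :
    x ∈ C.nEight := by
  obtain ⟨n, hn, hne⟩ := C.eight_trans he h1
  have hc : n⁻¹ * x * n ∈ cyz z y := by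
    refine mem_cyz.2 ⟨?_, ?_⟩
    · exact ((C.nEight_commute hn).inv_left.mul_left hy).mul_left (C.nEight_commute hn)
    · have h := hxe.map (MulAut.conj n⁻¹).toMonoidHom
      simp only [MulEquiv.coe_toMonoidHom, MulAut.conj_apply, inv_inv, ← hne] at h
      rwa [show n⁻¹ * (n * z * n⁻¹) * n = z by group] at h
  have h := mul_mem (mul_mem hn (C.cyz_le hc)) (inv_mem hn)
  rwa [show n * (n⁻¹ * x * n) * n⁻¹ = x by group] at h

/-- An involution of `N₈` outside the group of order eight is conjugate in `N₈` into `O₂(C(z))`. -/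
theorem invol_conj {t : G} (ht : t ∈ C.nEight) (h2 : t * t = 1) (hE : t ∉ C.eight) :
    ∃ n ∈ C.nEight, n⁻¹ * t * n ∈ oc z ∧ n⁻¹ * t * n ∈ cyz z y ∧ n⁻¹ * t * n ∉ C.eight := by
  classical
  have htinv : t⁻¹ = t := inv_eq_of_mul_eq_one_right h2
  have hnE : ∀ {n : G}, n ∈ C.nEight → n⁻¹ * t * n ∉ C.eight := fun {n} hn h => hE (by
    have := C.nEight_conj hn h
    rwa [show n * (n⁻¹ * t * n) * n⁻¹ = t by group] at this)
  -- the commutator map of `t`
  let f : ↥C.eight →* ↥C.eight := MonoidHom.mk' (fun a => ⟨(a : G) * (t * a * t⁻¹),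
      mul_mem a.2 (C.nEight_conj ht a.2)⟩) fun a b => Subtype.ext (by
    show (a : G) * b * (t * (a * b) * t⁻¹) = a * (t * a * t⁻¹) * (b * (t * b * t⁻¹))
    have hc := C.eight_comm b.2 (C.nEight_conj ht a.2)
    calc (a : G) * b * (t * (a * b) * t⁻¹) = a * (b * (t * a * t⁻¹)) * (t * b * t⁻¹) := by group
      _ = a * ((t * a * t⁻¹) * b) * (t * b * t⁻¹) := by rw [hc.eq]
      _ = a * (t * a * t⁻¹) * (b * (t * b * t⁻¹)) := by group)
  have hfv : ∀ a : ↥C.eight, ((f a : ↥C.eight) : G) = a * (t * a * t⁻¹) := fun _ => rfl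
  have hfix : ∀ a : ↥C.eight, t * (f a : G) * t⁻¹ = f a := by
    intro a
    rw [hfv, htinv]
    calc t * ((a : G) * (t * a * t)) * t = (t * a * t) * (a * (t * t)) := by group
      _ = (t * a * t) * a := by rw [h2, mul_one]
      _ = a * (t * a * t) := by
        have := C.nEight_conj ht a.2
        rw [htinv] at this
        exact (C.eight_comm this a.2).eq
  have hle : f.range ≤ f.ker := by
    rintro _ ⟨a, rfl⟩
    rw [MonoidHom.mem_ker]
    refine Subtype.ext ?_
    rw [hfv, hfix]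
    exact C.eight_sq (f a).2
  have hmul : Nat.card ↥f.ker * Nat.card ↥f.range = 8 := by
    have h := f.ker.card_mul_index
    rwa [Subgroup.index_ker, C.card_eight] at h
  have hsmall : Nat.card ↥f.range ≤ 2 := by
    have h1 := Subgroup.card_le_card_group f.range
    rw [C.card_eight] at h1
    have h2 : Nat.card ↥f.range ≤ Nat.card ↥f.ker := Subgroup.card_le_of_le hle
    by_contra hgt
    have h3 := Nat.mul_le_mul h2 (le_refl (Nat.card ↥f.range))
    rw [hmul] at h3
    have h4 := Nat.mul_le_mul (not_le.1 hgt) (not_le.1 hgt)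
    omega
  obtain ⟨a₀, ha₀⟩ : ∃ a : ↥C.eight, f a ≠ 1 := by
    by_contra hall
    push Not at hall
    have hcomm : ∀ e ∈ C.eight, Commute t e := by
      intro e he
      have h := congrArg Subtype.val (hall ⟨e, he⟩)
      rw [hfv] at h
      have h' : t * e * t⁻¹ = e := by
        calc t * e * t⁻¹ = e⁻¹ * (e * (t * e * t⁻¹)) := by group
          _ = e⁻¹ := by rw [show e * (t * e * t⁻¹) = 1 from h, mul_one]
          _ = e := inv_eq_of_mul_eq_one_right (C.eight_sq he)
      exact mul_inv_eq_iff_eq_mul.1 h'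
    obtain ⟨a, ha, e, he, hte⟩ := C.cent_eight (C.nEight_commute ht) hcomm
    have hae : Commute a e := ((C.commute_zpowers (C.eight_commute he) ha)).symm
    have ha2 : a * a = 1 := by
      have := h2
      rw [hte, hae.symm.mul_mul_mul_comm, C.eight_sq he, mul_one] at this
      exact this
    have ha1 : a = 1 := by
      have h5 : a ^ 5 = 1 := by
        obtain ⟨k, rfl⟩ := ha
        show (y ^ k) ^ 5 = 1
        rw [← zpow_natCast, ← zpow_mul, mul_comm, zpow_mul, zpow_natCast, C.five_pow, one_zpow]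
      rw [show (5 : ℕ) = 2 + 2 + 1 from rfl, pow_add, pow_add, pow_two, ha2, one_mul, one_mul,
        pow_one] at h5
      exact h5
    rw [hte, ha1, one_mul] at hE
    exact hE he
  obtain ⟨n, hn, hnz⟩ := C.eight_trans (f a₀).2 fun h => ha₀ (Subtype.ext h)
  have hcases : ∀ a : ↥C.eight, (f a : G) = 1 ∨ (f a : G) = (f a₀ : G) := by
    intro a
    by_contra hne
    push Not at hne
    have h3 : ({1, f a, f a₀} : Finset ↥C.eight).card ≤ Nat.card ↥f.range := by
      rw [show Nat.card ↥f.range = (f.range : Set ↥C.eight).ncard from Nat.card_coe_set_eq _,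
        ← Set.ncard_coe_finset]
      refine Set.ncard_le_ncard ?_ (Set.toFinite _)
      intro w hw
      simp only [Finset.coe_insert, Finset.coe_singleton, Set.mem_insert_iff, Set.mem_singleton_iff] at hw
      rcases hw with rfl | rfl | rfl
      exacts [f.range.one_mem, ⟨a, rfl⟩, ⟨a₀, rfl⟩]
    rw [Finset.card_insert_of_notMem, Finset.card_pair] at h3
    · omega
    · exact fun h => hne.2 (congrArg Subtype.val h)
    · simp only [Finset.mem_insert, Finset.mem_singleton, not_or]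
      exact ⟨fun h => hne.1 (congrArg Subtype.val h).symm, fun h => ha₀ h.symm⟩
  have hty : Commute (n⁻¹ * t * n) y :=
    ((C.nEight_commute hn).inv_left.mul_left (C.nEight_commute ht)).mul_left (C.nEight_commute hn)
  have htz : Commute (n⁻¹ * t * n) z := by
    have h : Commute t (n * z * n⁻¹) := by
      rw [hnz]; exact mul_inv_eq_iff_eq_mul.1 (hfix a₀)
    have := h.map (MulAut.conj n⁻¹).toMonoidHom
    simp only [MulEquiv.coe_toMonoidHom, MulAut.conj_apply, inv_inv] at this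
    rwa [show n⁻¹ * (n * z * n⁻¹) * n = z by group] at this
  set t' := n⁻¹ * t * n with ht'
  have htH : t' ∈ centralizer ({z} : Set G) := mem_centralizer_singleton_iff.2 htz.eq
  refine ⟨n, hn, (C.D.lin_eq_one htH).1 ?_, mem_cyz.2 ⟨hty, htz⟩, hnE hn⟩
  obtain ⟨M, hM, hMa⟩ := C.lin_code htH hty
  -- `t'` fixes the line pointwise
  have hline : ∀ r ∈ lineL, Rep.app M r = r := by
    intro r hr
    obtain ⟨e, he, hv⟩ := C.D.exists_vec (Rep.lin B r)
    have heE : e ∈ C.eight := C.mem_eight.2 ⟨he, r, hr, hv⟩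
    have hne : n * e * n⁻¹ ∈ C.eight := C.nEight_conj hn heE
    have hkey : t' * e * t'⁻¹ = e ∨ t' * e * t'⁻¹ = e * z := by
      rcases hcases ⟨_, hne⟩ with h | h
      · left
        rw [hfv] at h
        have h' : t * (n * e * n⁻¹) * t⁻¹ = n * e * n⁻¹ := by
          calc t * (n * e * n⁻¹) * t⁻¹ = (n * e * n⁻¹)⁻¹ *
                (n * e * n⁻¹ * (t * (n * e * n⁻¹) * t⁻¹)) := by group
            _ = (n * e * n⁻¹)⁻¹ := by rw [h, mul_one]
            _ = n * e * n⁻¹ := inv_eq_of_mul_eq_one_right (C.eight_sq hne)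
        calc t' * e * t'⁻¹ = n⁻¹ * (t * (n * e * n⁻¹) * t⁻¹) * n := by rw [ht']; group
          _ = e := by rw [h']; group
      · right
        rw [hfv, ← hnz] at h
        have h' : t * (n * e * n⁻¹) * t⁻¹ = n * e * n⁻¹ * (n * z * n⁻¹) := by
          calc t * (n * e * n⁻¹) * t⁻¹ = (n * e * n⁻¹)⁻¹ *
                (n * e * n⁻¹ * (t * (n * e * n⁻¹) * t⁻¹)) := by group
            _ = n * e * n⁻¹ * (n * z * n⁻¹) := by
              rw [h, inv_eq_of_mul_eq_one_right (C.eight_sq hne)]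
        calc t' * e * t'⁻¹ = n⁻¹ * (t * (n * e * n⁻¹) * t⁻¹) * n := by rw [ht']; group
          _ = e * z := by rw [h']; group
    have h := C.D.vec_conj_lin htH he
    rw [hv, hMa] at h
    have hlt := Orbits.app_lt_of_good (C.good_centY hM) r
    rcases hkey with k | k <;> rw [k] at h
    · rw [hv] at h
      exact (C.hM.lin_inj (C.line_lt hr) hlt h).symm
    · rw [vec_mul he C.D.z_mem, C.D.vec_z, add_zero, hv] at h
      exact (C.hM.lin_inj (C.line_lt hr) hlt h).symm
  have hsq : Orbits.comp M M = Orbits.idM := by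
    refine C.hM.code_unique (hMa.mul hMa) ?_ (Orbits.good_comp (C.good_centY hM) (C.good_centY hM))
      Orbits.good_idM
    rw [← (C.D.lin_mul htH htH).1, ht', show n⁻¹ * t * n * (n⁻¹ * t * n) = n⁻¹ * (t * t) * n by group,
      h2, mul_one, inv_mul_cancel, (C.D.lin_oc (one_mem _)).1]
    exact C.hM.acts_idM
  have h := List.all_eq_true.1 centY_invol M hM
  simp only [hsq, Orbits.eqM_iff.2 rfl, Bool.not_true, Bool.false_or, Bool.or_eq_true] at h
  rcases h with h | h
  · rw [Orbits.eqM_iff] at h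
    exact C.hM.acts_eq hMa (h ▸ C.hM.acts_idM)
  · exfalso
    have h' := List.all_eq_true.1 (List.all_eq_true.1 h 1025 (by simp [lineL])) 2618 (by simp [lineL])
    simp only [hline 1025 (by simp [lineL]), hline 2618 (by simp [lineL])] at h'
    revert h'
    decide

/-- An involution of `N₈` conjugate to `z` lies in the group of order eight. -/
theorem invol_mem {t : G} (ht : t ∈ C.nEight) (h2 : t * t = 1) (hc : ∃ g, g * z * g⁻¹ = t) :
    t ∈ C.eight := by
  by_contra hE
  obtain ⟨n, hn, ho, hy, hne⟩ := C.invol_conj ht h2 hE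
  obtain ⟨g, hg⟩ := hc
  exact hne (C.mem_eight_of_conj ho (mem_cyz.1 hy).1 ⟨n⁻¹ * g, by rw [← hg]; group⟩)

theorem conj_sq (g : G) : g * z * g⁻¹ * (g * z * g⁻¹) = 1 := by
  rw [show g * z * g⁻¹ * (g * z * g⁻¹) = g * (z * z) * g⁻¹ by group, C.D.zz]
  group

/-- **The centraliser of `y` and of an involution of `O₂(C(z))` outside the group of order eight.** -/
theorem cent_invol_oc {t : G} (ht : t ∈ oc z) (hty : t ∈ cyz z y) (h2 : t * t = 1) (hE : t ∉ C.eight)
    {x : G} (hxy : Commute x y) (hxt : Commute x t) : x ∈ C.nEight := by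
  classical
  set T := centralizer ({y} : Set G) ⊓ centralizer ({t} : Set G) with hT
  have memT : ∀ {g : G}, g ∈ T ↔ Commute g y ∧ Commute g t := fun {g} => by
    rw [hT, mem_inf, mem_centralizer_singleton_iff, mem_centralizer_singleton_iff]; rfl
  have hzy : Commute z y := C.eight_commute C.z_mem_eight
  have hzT : z ∈ T := memT.2 ⟨hzy, (mem_cyz.1 hty).2.symm⟩
  obtain ⟨f, hf, hfe⟩ := C.hM.code_cases (vec π t)
  have hffix : f ∈ fixL :=
    (fixed_iff C.hM C.hη hf).1 (by rw [hfe]; exact (C.commute_oc_iff ht).1 (mem_cyz.1 hty).1)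
  have hfq : Rep.qv f = 0 ∨ Rep.qv f % 2 = 0 := by
    right
    have h0 : q (Rep.lin B f) = 0 := by rw [hfe]; exact (C.D.sq_eq_one ht).1 h2
    rw [C.hM.q_eq f hf, ZMod.natCast_eq_zero_iff] at h0
    exact Nat.dvd_iff_mod_eq_zero.1 h0
  have hfq0 : Rep.qv f = 0 := by
    have hb := List.all_eq_true.1 Orbits.qv_le f (List.mem_range.2 hf)
    simp only [Nat.blt_eq, decide_eq_true_eq] at hb
    omega
  have hfL : f ∉ lineL := fun h => hE (C.mem_eight.2 ⟨ht, f, h, hfe.symm⟩)
  obtain ⟨r, hr, hr0, hrf⟩ : ∃ r ∈ lineL, r ≠ 0 ∧ Orbits.bv r f = false := by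
    have h := List.all_eq_true.1 line_hyper f hffix
    simp only [Bool.or_eq_true, Bool.not_eq_true', List.any_eq_true, Bool.and_eq_true] at h
    rcases h with (h | h) | ⟨r, hr, h0, hb⟩
    · exact absurd (memB_iff.1 h) hfL
    · rw [hfq0] at h; exact absurd h (by decide)
    · exact ⟨r, hr, fun e => by rw [e] at h0; exact absurd h0 (by decide), hb⟩
  obtain ⟨u, hu, huv⟩ := C.D.exists_vec (Rep.lin B r)
  have huE : u ∈ C.eight := C.mem_eight.2 ⟨hu, r, hr, huv⟩
  obtain ⟨hu1, huz⟩ := C.code_nonzero hr hr0 huv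
  have hut : Commute u t := (C.polar_bv (C.line_lt hr) hf hu ht huv hfe.symm).2 hrf
  have huT : u ∈ T := memT.2 ⟨C.eight_commute huE, hut⟩
  have hiso0 : ∀ g ∈ T, Commute z (g * z * g⁻¹) → g * z * g⁻¹ = z := by
    intro g hg hc
    obtain ⟨hgy, hgt⟩ := memT.1 hg
    set u0 := g * z * g⁻¹ with hu0
    have hu0y : Commute u0 y := (hgy.mul_left hzy).mul_left hgy.inv_left
    have hu0E : u0 ∈ C.eight :=
      C.invol_mem (C.cyz_le (mem_cyz.2 ⟨hu0y, hc.symm⟩)) (C.conj_sq g) ⟨g, rfl⟩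
    by_contra hne
    have hu01 : u0 ≠ 1 := fun h => C.D.z_ne (conj_eq_one_iff.1 h)
    refine hE ((C.oc_inter hu0E hu01 hne ht (mem_cyz.1 hty).1).1 ?_)
    rw [hu0, ← LargeExtra.oc_map_conj]
    exact ⟨t, ht, by
      show g * t * g⁻¹ = t
      rw [hgt.eq, mul_inv_cancel_right]⟩
  have hiso : Cfsg.IsIsolatedInvolution (⟨z, hzT⟩ : ↥T) := by
    refine ⟨by rw [Subgroup.orderOf_mk, C.D.set'.ord], fun g hg => Subtype.ext ?_⟩
    exact hiso0 g g.2 (congrArg Subtype.val hg.eq)
  set N : Subgroup ↥T := C.nEight.subgroupOf T with hN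
  set O := Cfsg.oddCore ↥T with hO
  have hodd : Odd (Nat.card ↥O) := by
    have h := Core.coprime_card_pPrimeCore (p := 2) (G := ↥T)
    rwa [Nat.coprime_two_right] at h
  have hOle : O ≤ N := by
    intro o ho
    have key : ∀ (e : G) (heT : e ∈ T), e ∈ C.eight → e ≠ 1 → ∀ w : ↥O,
        MulAut.conjNormal (⟨e, heT⟩ : ↥T) w = w → ((w : ↥T) : G) ∈ C.nEight := by
      intro e heT heE he1 w hw
      have h : e * ((w : ↥T) : G) * e⁻¹ = ((w : ↥T) : G) := by
        have h' := congrArg (fun v : ↥O => ((v : ↥T) : G)) hw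
        simpa [MulAut.conjNormal_apply] using h'
      exact C.cent_le_nEight heE he1 (memT.1 (w : ↥T).2).1 (mul_inv_eq_iff_eq_mul.1 h).symm
    have hzz : (⟨z, hzT⟩ : ↥T) * ⟨z, hzT⟩ = 1 := Subtype.ext C.D.zz
    have huu : (⟨u, huT⟩ : ↥T) * ⟨u, huT⟩ = 1 := Subtype.ext (C.eight_sq huE)
    have hzu : (⟨z, hzT⟩ : ↥T) * ⟨u, huT⟩ = ⟨u, huT⟩ * ⟨z, hzT⟩ :=
      Subtype.ext (C.zcomm huE).symm.eq
    have := S4412.four_gen hodd (MulAut.conjNormal (⟨z, hzT⟩ : ↥T)) (MulAut.conjNormal (⟨u, huT⟩ : ↥T))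
      (fun w => by rw [← MulAut.mul_apply, ← map_mul, hzz, map_one, MulAut.one_apply])
      (fun w => by rw [← MulAut.mul_apply, ← map_mul, huu, map_one, MulAut.one_apply])
      (fun w => by rw [← MulAut.mul_apply, ← MulAut.mul_apply, ← map_mul, ← map_mul, hzu])
      ⊤ (fun _ _ => mem_top _) (fun _ _ => mem_top _) (N.subgroupOf O) (fun w _ hw => ?_)
      (x := ⟨o, ho⟩) (mem_top _)
    · exact mem_subgroupOf.1 this
    rw [mem_subgroupOf, hN, mem_subgroupOf]
    rcases hw with hw | hw | hw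
    · exact key z hzT C.z_mem_eight C.D.z_ne w hw
    · exact key u huT huE hu1 w hw
    · rw [← MulAut.mul_apply, ← map_mul] at hw
      refine key (z * u) (mul_mem hzT huT) (mul_mem C.z_mem_eight huE) (fun h => huz ?_) w hw
      rw [← inv_eq_of_mul_eq_one_right h, C.D.zinv]
  -- `z` is central
  have hxT : x ∈ T := memT.2 ⟨hxy, hxt⟩
  have h := hOle (Invol.zstar hiso ⟨x, hxT⟩)
  rw [hN, mem_subgroupOf] at h
  have hw : z * x * z⁻¹ * x⁻¹ ∈ C.nEight := by simpa using h
  have hxz : x * z * x⁻¹ ∈ C.nEight := by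
    have h1 := mul_mem (C.eight_le C.z_mem_eight) hw
    rwa [show z * (z * x * z⁻¹ * x⁻¹) = z * z * (x * z⁻¹ * x⁻¹) by group, C.D.zz, one_mul,
      C.D.zinv] at h1
  have hxE : x * z * x⁻¹ ∈ C.eight := C.invol_mem hxz (C.conj_sq x) ⟨x, rfl⟩
  have hxz' := hiso0 x hxT (C.zcomm hxE).symm
  exact C.cyz_le (mem_cyz.2 ⟨hxy, mul_inv_eq_iff_eq_mul.1 hxz'⟩)

/-- The centraliser of `y` and of an involution of `N₈`. -/
theorem cent_invol {w x : G} (hw : w ∈ C.nEight) (h2 : w * w = 1) (h1 : w ≠ 1) (hxy : Commute x y)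
    (hxw : Commute x w) : x ∈ C.nEight := by
  by_cases hE : w ∈ C.eight
  · exact C.cent_le_nEight hE h1 hxy hxw
  obtain ⟨n, hn, ho, hy, hne⟩ := C.invol_conj hw h2 hE
  have h2' : n⁻¹ * w * n * (n⁻¹ * w * n) = 1 := by
    rw [show n⁻¹ * w * n * (n⁻¹ * w * n) = n⁻¹ * (w * w) * n by group, h2]; group
  have hc : Commute (n⁻¹ * x * n) (n⁻¹ * w * n) := by
    have := hxw.map (MulAut.conj n⁻¹).toMonoidHom
    simpa [MulAut.conj_apply] using this
  have h := C.cent_invol_oc ho hy h2' hne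
    (((C.nEight_commute hn).inv_left.mul_left hxy).mul_left (C.nEight_commute hn)) hc
  have h' := mul_mem (mul_mem hn h) (inv_mem hn)
  rwa [show n * (n⁻¹ * x * n) * n⁻¹ = x by group] at h'

theorem exists_outer_invol : ∃ t, t ∈ oc z ∧ t ∈ cyz z y ∧ t * t = 1 ∧ t ∉ C.eight := by
  have h := six_exists
  simp only [Bool.and_eq_true, Bool.not_eq_true', Nat.beq_eq] at h
  obtain ⟨t, ht, hty, hv⟩ := C.exists_fix (memB_iff.1 h.2)
  refine ⟨t, ht, hty, (C.D.sq_eq_one ht).2 (by rw [hv, C.hM.q_eq _ (by norm_num), h.1.1, Nat.cast_zero]),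
    fun hE => ?_⟩
  obtain ⟨r, hr, hrv⟩ := (C.mem_eight.1 hE).2
  rw [hv] at hrv
  rw [C.hM.lin_inj (by norm_num) (C.line_lt hr) hrv] at h
  rw [memB_iff.2 hr] at h
  simp at h

/-- **The centraliser of `y` normalises the group of order eight.** -/
theorem cent_eq : centralizer ({y} : Set G) = C.nEight := by
  refine le_antisymm (fun g hg => ?_) inf_le_left
  have hgy : Commute g y := mem_centralizer_singleton_iff.1 hg
  by_contra hgN
  obtain ⟨s, hs⟩ : ∃ s, s = g * z * g⁻¹ := ⟨_, rfl⟩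
  have hzy : Commute z y := C.eight_commute C.z_mem_eight
  have hsy : Commute s y := hs ▸ (hgy.mul_left hzy).mul_left hgy.inv_left
  have hss : s * s = 1 := hs ▸ C.conj_sq g
  have hsN : s ∉ C.nEight := by
    intro hsN
    have hsE := C.invol_mem hsN hss ⟨g, hs.symm⟩
    have hs1 : s ≠ 1 := fun h => C.D.z_ne (conj_eq_one_iff.1 (hs.symm.trans h))
    obtain ⟨n, hn, hne⟩ := C.eight_trans hsE hs1
    apply hgN
    have hc : n⁻¹ * g ∈ cyz z y := by
      refine mem_cyz.2 ⟨(C.nEight_commute hn).inv_left.mul_left hgy, ?_⟩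
      refine mul_inv_eq_iff_eq_mul.1 ?_
      rw [show n⁻¹ * g * z * (n⁻¹ * g)⁻¹ = n⁻¹ * (g * z * g⁻¹) * n by group, ← hs, ← hne]
      group
    have := mul_mem hn (C.cyz_le hc)
    rwa [mul_inv_cancel_left] at this
  obtain ⟨t, hto, hty, htt, htE⟩ := C.exists_outer_invol
  have htN : t ∈ C.nEight := C.cyz_le hty
  obtain ⟨d, hd⟩ : ∃ d, d = s * t := ⟨_, rfl⟩
  have hsinv : s⁻¹ = s := inv_eq_of_mul_eq_one_right hss
  have htinv : t⁻¹ = t := inv_eq_of_mul_eq_one_right htt
  have hsd : s * d * s⁻¹ = d⁻¹ := by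
    rw [hd, mul_inv_rev, hsinv, htinv, ← mul_assoc, hss, one_mul]
  have htd : t * d * t⁻¹ = d⁻¹ := by
    rw [hd, mul_inv_rev, hsinv, htinv]
    simp only [mul_assoc, htt, mul_one]
  have hpow : ∀ (a : G), a * d * a⁻¹ = d⁻¹ → ∀ k : ℕ, a * d ^ k * a⁻¹ = (d ^ k)⁻¹ := by
    intro a ha k
    rw [← conj_pow, ha, inv_pow]
  rcases Nat.even_or_odd' (orderOf d) with ⟨k, hk | hk⟩
  · have hk0 : 0 < k := by
      have := orderOf_pos d
      omega
    set w := d ^ k with hw
    have hw1 : w ≠ 1 := pow_ne_one_of_lt_orderOf (by omega) (by omega)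
    have hw2 : w * w = 1 := by
      rw [hw, ← pow_add, ← two_mul, ← hk, pow_orderOf_eq_one]
    have hwinv : w⁻¹ = w := inv_eq_of_mul_eq_one_right hw2
    have hwy : Commute w y := by rw [hw, hd]; exact (hsy.mul_left (mem_cyz.1 hty).1).pow_left k
    have hwt : Commute t w := by
      have := hpow t htd k
      rw [← hw, hwinv] at this
      exact mul_inv_eq_iff_eq_mul.1 this
    have hws : Commute s w := by
      have := hpow s hsd k
      rw [← hw, hwinv] at this
      exact mul_inv_eq_iff_eq_mul.1 this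
    have hwN : w ∈ C.nEight :=
      C.cent_invol htN htt (fun h => htE (h ▸ one_mem _)) hwy hwt.symm
    exact hsN (C.cent_invol hwN hw2 hw1 hsy hws)
  · have h1 : d ^ (2 * k) = d⁻¹ := by
      refine eq_inv_of_mul_eq_one_left ?_
      rw [← pow_succ, ← hk, pow_orderOf_eq_one]
    have h2 : s * (d ^ k)⁻¹ = d ^ k * s := by
      rw [← hpow s hsd k, hsinv, show s * (s * d ^ k * s) = s * s * (d ^ k * s) by simp only [mul_assoc],
        hss, one_mul]
    have hconj : d ^ k * s * (d ^ k)⁻¹ = t := by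
      rw [mul_assoc, h2, ← mul_assoc, ← pow_add, ← two_mul, h1, hd, mul_inv_rev, hsinv, htinv,
        mul_assoc, hss, mul_one]
    exact htE (C.invol_mem htN htt ⟨d ^ k * g, by rw [← hconj, hs]; group⟩)

theorem card_cent : Nat.card ↥(centralizer ({y} : Set G)) = 6720 := by rw [C.cent_eq, C.card_nEight]

end Ctx

end Cfsg.Agent.J4Type.Five
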