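import Cfsg.Agent.J4Type.Five.Data
import Cfsg.Agent.J4Type.Orbits.Lin
import Cfsg.Agent.J4Type.Rep.Main

/-!
# The centraliser of an element of order five in the module model
-/

set_option autoImplicit false
set_option Elab.async false
set_option maxRecDepth 100000

namespace Cfsg.Agent.J4Type.Five

open Rep Orbits

/-- Membership of a code in a list. -/
noncomputable def memB (l : List ℕ) (r : ℕ) : Bool := l.any (Nat.beq r)

/-- Membership of a map in a list. -/
noncomputable def memM (l : List (List ℕ)) (M : List ℕ) : Bool := l.any (eqM M)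

theorem fixL_eq : ((List.range 4096).all fun r => Nat.beq (app Ym r) r == memB fixL r) = true := by
  decide +kernel

theorem fixL_len : (Nat.beq fixL.length 16 && distinctB Nat.beq fixL &&
    fixL.all fun r => Nat.blt r 4096) = true := by decide +kernel

theorem centY_ok : (Nat.beq centY.length 30 && distinctB eqM centY && centY.all fun M =>
    goodM M && eqM (comp M Ym) (comp Ym M)) = true := by decide +kernel

theorem centY_line : (centY.all fun M => lineL.all fun r => memB lineL (app M r)) = true := by decide +kernel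

theorem centY_gen : (memM centY Ym && memM centY Wm && memM centY Sg &&
    centY.all fun M => memM centY (comp Wm M)) = true := by decide +kernel

theorem lineL_facts : (lineL.all fun r => Nat.blt r 4096 && memB fixL r && Nat.beq (qv r) 0 &&
    lineL.all fun s => memB lineL (Nat.xor r s) && !bv r s) = true := by decide +kernel

theorem lineL_orbit : (fixL.all fun r => !(bit Short.orbBits r) || memB lineL r) = true ∧
    (lineL.all fun r => Nat.beq r 0 || bit Short.orbBits r) = true := by decide +kernel

theorem line_perp : (fixL.all fun f => memB lineL f || lineL.any fun r => bv r f) = true := by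
  decide +kernel

theorem line_hyper : (fixL.all fun f => memB lineL f || !(Nat.beq (qv f) 0) ||
    lineL.any fun r => !(Nat.beq r 0) && !bv r f) = true := by decide +kernel

theorem line_scalar : (lineL.all fun r => Nat.beq r 0 || lineL.all fun s => Nat.beq s 0 ||
    (Nat.beq s r || Nat.beq s (app Wm r) || Nat.beq s (app Wm (app Wm r)))) = true := by decide +kernel

theorem line_mover : (lineL.all fun r => Nat.beq r 0 || fixL.any fun f => bv f r) = true := by decide +kernel

theorem centY_fix_line : (centY.all fun M => !(lineL.all fun r => Nat.beq (app M r) r) ||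
    (eqM M idM || eqM M Ym || eqM M (comp Ym Ym) || eqM M (comp Ym (comp Ym Ym)) ||
      eqM M (comp Ym (comp Ym (comp Ym Ym))))) = true := by decide +kernel

theorem centY_invol : (centY.all fun M => !eqM (comp M M) idM || eqM M idM ||
    lineL.all fun r => lineL.all fun s => Nat.beq r 0 || Nat.beq s 0 || Nat.beq r s ||
      !(Nat.beq (app M r) r && Nat.beq (app M s) s)) = true := by decide +kernel

theorem moveW_ok : (lineL.all fun r => Nat.beq r 0 || moveW.any fun p =>
    Nat.beq p.1 r && Nat.beq (app (code p.2) r) Short.v0) = true ∧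
    (moveW.all fun p => lineL.all (fun s => memB kList (app (code p.2) s)) &&
      fixL.all fun f => !memB kList (app (code p.2) f) || memB lineL f) = true := by decide +kernel

theorem six_moved : (fixL.all fun r => memB lineL r || !(Nat.beq (qv r) 0) ||
    (Nat.beq (qv (Nat.xor r (app Sg r))) 1 || Nat.beq (qv (Nat.xor r (app Sg (app Wm r)))) 1 ||
      Nat.beq (qv (Nat.xor r (app Sg (app Wm (app Wm r))))) 1)) = true := by decide +kernel

theorem six_exists : (Nat.beq (qv 1594) 0 && !memB lineL 1594 && memB fixL 1594) = true := by decide +kernel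

theorem base_conj : (Nat.beq (app (code wordG) Short.v0) 1025 &&
    eqM (comp (code wordG) (code wordGi)) idM && eqM (comp (code wordGi) (code wordG)) idM) = true := by
  decide +kernel

theorem stab_filter : ((stabIn ++ stabOut).all fun M =>
    !eqM (comp M (comp (code wordGi) (comp Ym (code wordG))))
        (comp (comp (code wordGi) (comp Ym (code wordG))) M) ||
      memM centY (comp (code wordG) (comp M (code wordGi)))) = true := by decide +kernel

theorem F0_Ym : eqM (comp F0 Ym) (comp (comp Ym Ym) F0) = true ∧ Nat.beq (app Wm 1025) 1025 = false := by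
  decide +kernel

/-- The products `Ym^i Wm^j Sg^k`. -/
noncomputable def prodL : List (List ℕ) :=
  [idM, Ym, comp Ym Ym, comp Ym (comp Ym Ym), comp Ym (comp Ym (comp Ym Ym))].flatMap fun a =>
    [idM, Wm, comp Wm Wm].flatMap fun b => [comp a b, comp (comp a b) Sg]

theorem centY_prod : (centY.all fun M => memM prodL M) = true := by decide +kernel

theorem memB_iff {l : List ℕ} {r : ℕ} : memB l r = true ↔ r ∈ l := by
  simp [memB, List.any_eq_true, Nat.beq_eq]

theorem memM_iff {l : List (List ℕ)} {M : List ℕ} : memM l M = true ↔ M ∈ l := by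
  simp [memM, List.any_eq_true, eqM_iff]

variable {V : Type*} [AddCommGroup V] {B : List V} {Γ Γ₀ : Subgroup (Equiv.Perm V)} {q : V → ZMod 2}
  (hM : Orbits.Model B Γ Γ₀ q)
include hM

/-- The permutation of the element of order five fixes exactly the listed vectors. -/
theorem fixed_iff {η : Equiv.Perm V} (hη : Orbits.PActs B η Ym) {r : ℕ} (hr : r < 4096) :
    η (lin B r) = lin B r ↔ r ∈ fixL := by
  have h := List.all_eq_true.1 fixL_eq r (List.mem_range.2 hr)
  simp only [beq_iff_eq] at h
  rw [← memB_iff, ← h, Nat.beq_eq, hη]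
  exact ⟨fun e => hM.lin_inj (app_lt_of_good (by decide +kernel) r) hr e, fun e => by rw [e]⟩

theorem short_of_mem {r : ℕ} (hr : r ∈ lineL) (h0 : r ≠ 0) :
    ∃ γ ∈ Γ₀, γ (lin B Short.v0) = lin B r := by
  have h := List.all_eq_true.1 lineL_orbit.2 r hr
  simp only [Bool.or_eq_true, Nat.beq_eq, h0, false_or] at h
  exact short.reach hM h

/-- A fixed vector in the short orbit is on the line. -/
theorem mem_line {η γ : Equiv.Perm V} (hη : Orbits.PActs B η Ym) (hγ : γ ∈ Γ) {r : ℕ} (hr : r < 4096)
    (hfix : η (lin B r) = lin B r) (hv : γ (lin B r) = lin B Short.v0) : r ∈ lineL := by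
  obtain ⟨s, hs, hb, e⟩ := short.invariant hM (inv_mem hγ) short.v₀_lt short.base
  rw [Equiv.Perm.inv_def, ← hv, Equiv.symm_apply_apply] at e
  rw [← hM.lin_inj hr hs e] at hb
  have h := List.all_eq_true.1 lineL_orbit.1 r ((fixed_iff hM hη hr).1 hfix)
  simp only [hb, Bool.not_true, Bool.false_or] at h
  exact memB_iff.1 h

/-- **The elements commuting with the element of order five.** -/
theorem cent_code {η γ : Equiv.Perm V} (hη : Orbits.PActs B η Ym) (hγ : γ ∈ Γ) (hc : γ * η = η * γ) :
    ∃ M ∈ centY, Orbits.PActs B γ M := by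
  obtain ⟨ω, hω₀, hω⟩ := hM.word Wit.wordW
  rw [wordW_eq] at hω
  have hωη : ω * η = η * ω := by
    refine hM.acts_eq (hω.mul hη) ?_
    have e : comp Wm Ym = comp Ym Wm := by decide +kernel
    rw [e]; exact hη.mul hω
  have h1025 : (1025 : ℕ) ∈ lineL := by simp [lineL]
  obtain ⟨γ₁, hγ₁, hd⟩ := short_of_mem hM h1025 (by norm_num)
  -- the image of the point is on the line
  obtain ⟨r, hr, er⟩ := hM.code_cases (γ (lin B 1025))
  have hfix : η (lin B r) = lin B r := by
    rw [er, ← Equiv.Perm.mul_apply, ← hc, Equiv.Perm.mul_apply,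
      (fixed_iff hM hη (by norm_num)).2 (by simp [fixL])]
  have hrL : r ∈ lineL := by
    refine mem_line hM hη (γ := (γ * γ₁)⁻¹) (inv_mem (mul_mem hγ (hM.le hγ₁))) hr hfix ?_
    rw [er, ← hd, Equiv.Perm.inv_def, Equiv.symm_apply_eq, Equiv.Perm.mul_apply]
  have hr0 : r ≠ 0 := fun h0 => by
    have : lin B 1025 = 0 := γ.injective (by
      have hz : γ 0 = 0 := by
        have := hM.map_add hγ 0 0
        rw [add_zero] at this
        exact left_eq_add.1 this
      rw [hz, ← er, h0, lin_zero])
    exact absurd ((hM.lin_eq_zero (by norm_num)).1 this) (by norm_num)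
  -- correct it by a power of the scalar
  obtain ⟨k, hk⟩ : ∃ k : ℕ, (ω ^ k * γ) (lin B 1025) = lin B 1025 := by
    have h := List.all_eq_true.1 (List.all_eq_true.1 (show (lineL.all fun r => lineL.all fun s =>
      Nat.beq r 0 || Nat.beq s 0 || Nat.beq r s || Nat.beq (app Wm r) s ||
        Nat.beq (app Wm (app Wm r)) s) = true by decide +kernel) r hrL) 1025 h1025
    simp only [Bool.or_eq_true, Nat.beq_eq, hr0, false_or, show (1025 : ℕ) ≠ 0 by norm_num] at h
    rcases h with (h | h) | h
    · exact ⟨0, by rw [pow_zero, one_mul, ← er, h]⟩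
    · exact ⟨1, by rw [pow_one, Equiv.Perm.mul_apply, ← er, hω, h]⟩
    · exact ⟨2, by rw [pow_two, Equiv.Perm.mul_apply, Equiv.Perm.mul_apply, ← er, hω, hω, h]⟩
  set δ := ω ^ k * γ with hδ
  have hδΓ : δ ∈ Γ := mul_mem (pow_mem (hM.le hω₀) k) hγ
  have hδc : δ * η = η * δ := ((show Commute ω η from hωη).pow_left k).mul_left hc
  -- move to the base point
  obtain ⟨g, hg₀, hg⟩ := hM.word wordG
  obtain ⟨g', -, hg'⟩ := hM.word wordGi
  obtain ⟨⟨hb1, hb2⟩, hb3⟩ : (app (code wordG) Short.v0 = 1025 ∧ comp (code wordG) (code wordGi) = idM) ∧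
      comp (code wordGi) (code wordG) = idM := by
    simpa [Bool.and_eq_true, Nat.beq_eq, eqM_iff] using base_conj
  have hgg : g' = g⁻¹ := eq_inv_of_mul_eq_one_right (hM.acts_eq (hb2 ▸ hg.mul hg') hM.acts_idM)
  set ε := g⁻¹ * δ * g with hε
  have hεΓ : ε ∈ Γ := mul_mem (mul_mem (inv_mem (hM.le hg₀)) hδΓ) (hM.le hg₀)
  have hεfix : ε (lin B Short.v0) = lin B Short.v0 := by
    rw [hε, Equiv.Perm.mul_apply, Equiv.Perm.mul_apply, hg, hb1, hk, Equiv.Perm.inv_def,
      Equiv.symm_apply_eq, hg, hb1]
  obtain ⟨M, hm, he⟩ : ∃ M ∈ stabIn ++ stabOut, Orbits.PActs B ε M := stab_codes hM short hεΓ hεfix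
  have hMgood : goodM M = true := by
    rcases List.mem_append.1 hm with h | h
    exacts [good_stabIn h, good_stabOut h]
  set Y' := comp (code wordGi) (comp Ym (code wordG)) with hY'
  have hY'acts : Orbits.PActs B (g⁻¹ * η * g) Y' := by
    rw [mul_assoc]
    exact (hgg ▸ hg').mul (hη.mul hg)
  have hYgood : goodM Y' = true :=
    good_comp (good_code _) (good_comp (by decide +kernel) (good_code _))
  have hcomm : ε * (g⁻¹ * η * g) = g⁻¹ * η * g * ε := by
    rw [hε, show g⁻¹ * δ * g * (g⁻¹ * η * g) = g⁻¹ * (δ * η) * g by group, hδc]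
    group
  have hMY : comp M Y' = comp Y' M :=
    hM.code_unique (he.mul hY'acts) (hcomm ▸ hY'acts.mul he) (good_comp hMgood hYgood)
      (good_comp hYgood hMgood)
  have h := List.all_eq_true.1 stab_filter M hm
  rw [← hY', eqM_iff.2 hMY] at h
  simp only [Bool.not_true, Bool.false_or] at h
  have hN := memM_iff.1 h
  set N := comp (code wordG) (comp M (code wordGi))
  have hδN : Orbits.PActs B δ N := by
    have e : δ = g * (ε * g') := by rw [hgg, hε]; group
    rw [e]
    exact hg.mul (he.mul hg')
  -- undo the scalar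
  have hW3 : ω * ω * ω = 1 := by
    refine hM.acts_eq ((hω.mul hω).mul hω) ?_
    have e : comp (comp Wm Wm) Wm = idM := by decide +kernel
    rw [e]; exact hM.acts_idM
  have hγeq : γ = ω ^ (2 * k) * δ := by
    rw [hδ, ← mul_assoc, ← pow_add, show 2 * k + k = 3 * k by ring, pow_mul,
      show ω ^ 3 = 1 by rw [pow_succ, pow_two, hW3], one_pow, one_mul]
  rw [hγeq]
  generalize 2 * k = j
  clear hγeq hk hδ
  induction j with
  | zero => exact ⟨N, hN, by rw [pow_zero, one_mul]; exact hδN⟩
  | succ j ih =>
    obtain ⟨M', hM', hacts⟩ := ih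
    have hc' := centY_gen
    simp only [Bool.and_eq_true, List.all_eq_true] at hc'
    exact ⟨comp Wm M', memM_iff.1 (hc'.2 M' hM'), by rw [pow_succ', mul_assoc]; exact hω.mul hacts⟩

end Cfsg.Agent.J4Type.Five
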