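import Cfsg.Agent.J4Type.Five.Sylow

/-!
# The normaliser of the group of order eight in the centraliser of `y`
-/

set_option autoImplicit false

open Cfsg Subgroup

namespace Cfsg.Agent.J4Type.Five

open LargeExtra (oc oc_le oc_conj_mem)

universe u

variable {G : Type u} [Group G] [Finite G]
variable {z : G} {P : Subgroup G} {V : Type*} [AddCommGroup V]
  {π : ↥(oc z) →* Multiplicative V} {ρ : ↥(mSub z P) →* Equiv.Perm V} {q : V → ZMod 2} {B : List V}
  {y : G} {η : Equiv.Perm V}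

/-- The centraliser of `y` in `C(z)`. -/
def cyz (z y : G) : Subgroup G := centralizer ({y} : Set G) ⊓ centralizer ({z} : Set G)

theorem mem_cyz {x : G} : x ∈ cyz z y ↔ Commute x y ∧ Commute x z := by
  rw [cyz, mem_inf, mem_centralizer_singleton_iff, mem_centralizer_singleton_iff]
  rfl

namespace Ctx

variable (C : Ctx z P π ρ q B y η)
include C

/-- The elements centralising `y` and normalising the group of order eight. -/
def nEight : Subgroup G := centralizer ({y} : Set G) ⊓ normalizer (C.eight : Set G)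

theorem mem_nEight {x : G} : x ∈ C.nEight ↔ Commute x y ∧ x ∈ normalizer (C.eight : Set G) := by
  rw [nEight, mem_inf, mem_centralizer_singleton_iff]
  rfl

theorem nEight_conj {x e : G} (hx : x ∈ C.nEight) (he : e ∈ C.eight) : x * e * x⁻¹ ∈ C.eight :=
  (mem_normalizer_iff.1 (C.mem_nEight.1 hx).2 e).1 he

theorem nEight_commute {x : G} (hx : x ∈ C.nEight) : Commute x y := (C.mem_nEight.1 hx).1

theorem code_nonzero {r : ℕ} (hr : r ∈ lineL) (h0 : r ≠ 0) {e : G} (h : vec π e = Rep.lin B r) :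
    e ≠ 1 ∧ e ≠ z := by
  have hne : vec π e ≠ 0 := by
    rw [h]
    exact fun h' => h0 ((C.hM.lin_eq_zero (C.line_lt hr)).1 h')
  exact ⟨fun e1 => hne (by rw [e1, vec_one]), fun ez => hne (by rw [ez, C.D.vec_z])⟩

theorem cyz_le : cyz z y ≤ C.nEight := by
  intro h hh
  obtain ⟨hy, hz⟩ := mem_cyz.1 hh
  have hH : h ∈ centralizer ({z} : Set G) := mem_centralizer_singleton_iff.2 hz.eq
  obtain ⟨M, hM, hMa⟩ := C.lin_code hH hy
  have hle : C.eight.map (MulAut.conj h).toMonoidHom ≤ C.eight := by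
    rintro _ ⟨e, he, rfl⟩
    simp only [MulEquiv.coe_toMonoidHom, MulAut.conj_apply]
    obtain ⟨r, hr, hv⟩ := (C.mem_eight.1 he).2
    have h2 := List.all_eq_true.1 (List.all_eq_true.1 centY_line M hM) r hr
    exact C.mem_eight.2 ⟨oc_conj_mem hH (C.mem_eight.1 he).1, _, memB_iff.1 h2,
      by rw [C.D.vec_conj_lin hH (C.mem_eight.1 he).1, hv, hMa]⟩
  have he := eq_of_le_of_card_ge hle (by rw [card_map_of_injective (MulAut.conj h).injective])
  refine C.mem_nEight.2 ⟨hy, mem_normalizer_iff.2 fun w => ⟨fun hw => hle ⟨w, hw, rfl⟩, fun hw => ?_⟩⟩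
  rw [← he] at hw
  obtain ⟨w', hw', e⟩ := hw
  have : w' = w := (MulAut.conj h).injective e
  exact this ▸ hw'

theorem eight_le_cyz : C.eight ≤ cyz z y := fun _ he =>
  mem_cyz.2 ⟨C.eight_commute he, C.D.comm_z (oc_le z he.1)⟩

theorem eight_le : C.eight ≤ C.nEight := C.eight_le_cyz.trans C.cyz_le

/-- A lift of a permutation of the model commuting with that of `y`. -/
theorem exists_lift {γ : Equiv.Perm V} (hγ : γ ∈ ρ.range) (hc : γ * η = η * γ) :
    ∃ m ∈ mSub z P, act ρ m = γ ∧ m ∈ cyz z y := by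
  obtain ⟨⟨m, hm⟩, rfl⟩ := hγ
  have ha : act ρ m = ρ ⟨m, hm⟩ := act_of_mem hm
  exact ⟨m, hm, ha, mem_cyz.2 ⟨C.commute_of_act hm (by rw [ha]; exact hc), C.D.comm_z hm.1⟩⟩

theorem exists_omega : ∃ m ∈ mSub z P, m ∈ cyz z y ∧ Orbits.PActs B (act ρ m) Rep.Wm := by
  obtain ⟨ω, hω₀, hω⟩ := C.hM.word Orbits.Wit.wordW
  rw [Orbits.wordW_eq] at hω
  have hc : ω * η = η * ω := by
    refine C.hM.acts_eq (hω.mul C.hη) ?_
    have e : Orbits.comp Rep.Wm Rep.Ym = Orbits.comp Rep.Ym Rep.Wm := by decide +kernel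
    rw [e]; exact C.hη.mul hω
  obtain ⟨m, hm, ha, hmy⟩ := C.exists_lift (C.hM.le hω₀) hc
  exact ⟨m, hm, hmy, ha ▸ hω⟩

theorem exists_sigma_lift : ∃ m ∈ mSub z P, m ∈ cyz z y ∧ Orbits.PActs B (act ρ m) Rep.Sg := by
  obtain ⟨σ, hσ, hs⟩ := C.hM.exists_sigma
  have hc : σ * η = η * σ := by
    refine C.hM.acts_eq (hs.mul C.hη) ?_
    have e : Orbits.comp Rep.Sg Rep.Ym = Orbits.comp Rep.Ym Rep.Sg := by decide +kernel
    rw [e]; exact C.hη.mul hs
  obtain ⟨m, hm, ha, hmy⟩ := C.exists_lift hσ hc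
  exact ⟨m, hm, hmy, ha ▸ hs⟩

theorem polar_bv {a b : ℕ} (ha : a < 4096) (hb : b < 4096) {e f : G} (he : e ∈ oc z) (hf : f ∈ oc z)
    (hea : vec π e = Rep.lin B a) (hfb : vec π f = Rep.lin B b) :
    Commute e f ↔ Orbits.bv a b = false := by
  rw [← C.D.polar_eq he hf, hea, hfb, C.hM.polar_code ha hb]
  cases Orbits.bv a b <;> simp

theorem exists_fix {r : ℕ} (hr : r ∈ fixL) : ∃ e ∈ oc z, e ∈ cyz z y ∧ vec π e = Rep.lin B r := by
  have hlt : r < 4096 := by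
    have h := fixL_len
    simp only [Bool.and_eq_true, List.all_eq_true, Nat.blt_eq] at h
    exact h.2 r hr
  obtain ⟨e, he, hv⟩ := C.D.exists_vec (Rep.lin B r)
  refine ⟨e, he, mem_cyz.2 ⟨(C.commute_oc_iff he).2 ?_, C.D.comm_z (oc_le z he)⟩, hv⟩
  rw [hv]
  exact (fixed_iff C.hM C.hη hlt).2 hr

theorem fix_lt {r : ℕ} (hr : r ∈ fixL) : r < 4096 := by
  have h := fixL_len
  simp only [Bool.and_eq_true, List.all_eq_true, Nat.blt_eq] at h
  exact h.2 r hr

/-- `C(y) ∩ C(z)` is transitive on the six elements of the group of order eight outside `⟨z⟩`. -/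
theorem six_trans {u u' : G} (hu : u ∈ C.eight) (h1 : u ≠ 1) (hz : u ≠ z)
    (hu' : u' ∈ C.eight) (h1' : u' ≠ 1) (hz' : u' ≠ z) : ∃ k ∈ cyz z y, k * u * k⁻¹ = u' := by
  obtain ⟨r, hr, hr0, hv⟩ := C.vec_eight_ne hu h1 hz
  obtain ⟨s, hs, hs0, hv'⟩ := C.vec_eight_ne hu' h1' hz'
  obtain ⟨m, hm, hmy, hw⟩ := C.exists_omega
  have hmH := (mem_centralizer_singleton_iff.2 (mem_cyz.1 hmy).2.eq : m ∈ centralizer ({z} : Set G))
  have hstep : ∀ {a : G} {t : ℕ}, a ∈ oc z → vec π a = Rep.lin B t →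
      m * a * m⁻¹ ∈ oc z ∧ vec π (m * a * m⁻¹) = Rep.lin B (Rep.app Rep.Wm t) := fun ha hat =>
    ⟨oc_conj_mem hmH ha, by rw [C.D.vec_conj hm ha, hat, hw]⟩
  obtain ⟨k, hk, hku, hkv⟩ : ∃ k ∈ cyz z y, k * u * k⁻¹ ∈ oc z ∧ vec π (k * u * k⁻¹) = vec π u' := by
    have h := List.all_eq_true.1 line_scalar r hr
    simp only [Bool.or_eq_true, Nat.beq_eq, hr0, false_or, List.all_eq_true] at h
    have h' := h s hs
    simp only [hs0, false_or] at h'
    obtain ⟨a1, a2⟩ := hstep hu.1 hv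
    rcases h' with (h' | h') | h'
    · exact ⟨1, one_mem _, by simpa using hu.1, by simpa [hv', h'] using hv⟩
    · exact ⟨m, hmy, a1, by rw [a2, hv', h']⟩
    · obtain ⟨b1, b2⟩ := hstep a1 a2
      refine ⟨m * m, mul_mem hmy hmy, ?_, ?_⟩
      · rwa [show m * m * u * (m * m)⁻¹ = m * (m * u * m⁻¹) * m⁻¹ by group]
      · rw [show m * m * u * (m * m)⁻¹ = m * (m * u * m⁻¹) * m⁻¹ by group, b2, hv', h']
  rcases C.D.vec_eq hku hu'.1 hkv with e | e
  · exact ⟨k, hk, e⟩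
  · have hmv := List.all_eq_true.1 line_mover s hs
    simp only [Bool.or_eq_true, Nat.beq_eq, hs0, false_or, List.any_eq_true] at hmv
    obtain ⟨f, hf, hfs⟩ := hmv
    obtain ⟨a, ha, hay, hav⟩ := C.exists_fix hf
    have hnc : ¬ Commute a u' := by
      rw [C.polar_bv (C.fix_lt hf) (C.line_lt hs) ha hu'.1 hav hv', hfs]
      decide
    have hau : a * u' * a⁻¹ = u' * z := by
      rcases C.D.comm_cases ha hu'.1 with e' | e'
      · exact absurd (mul_inv_eq_iff_eq_mul.1 e') hnc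
      · exact e'
    refine ⟨a * k, mul_mem hay hk, ?_⟩
    calc a * k * u * (a * k)⁻¹ = a * (k * u * k⁻¹) * a⁻¹ := by group
      _ = a * (u' * z) * a⁻¹ := by rw [e]
      _ = a * u' * a⁻¹ * (a * z * a⁻¹) := by group
      _ = u' * z * z := by rw [hau, mul_inv_eq_iff_eq_mul.2 (C.D.comm_z (oc_le z ha)).eq]
      _ = u' := by rw [mul_assoc, C.D.zz, mul_one]

theorem exists_six : ∃ u ∈ C.eight, u ≠ 1 ∧ u ≠ z ∧
    ∃ k ∈ cyz z y, k * u * k⁻¹ ∈ C.eight ∧ k * u * k⁻¹ ≠ u := by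
  obtain ⟨e, he, hv⟩ := C.D.exists_vec (Rep.lin B 1025)
  have h1025 : (1025 : ℕ) ∈ lineL := by simp [lineL]
  obtain ⟨h1, hz⟩ := C.code_nonzero h1025 (by norm_num) hv
  have heE : e ∈ C.eight := C.mem_eight.2 ⟨he, _, h1025, hv⟩
  obtain ⟨m, hm, hmy, hw⟩ := C.exists_omega
  refine ⟨e, heE, h1, hz, m, hmy, C.nEight_conj (C.cyz_le hmy) heE, fun hc => ?_⟩
  have := congrArg (vec π) hc
  rw [C.D.vec_conj hm he, hv, hw] at this
  have h2 := C.hM.lin_inj (Orbits.app_lt_of_good (by decide +kernel) _) (by norm_num) this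
  have h3 := F0_Ym.2
  rw [h2] at h3
  simp at h3

/-- **`C(y) ∩ N(E₈)` is transitive on the involutions of the group of order eight.** -/
theorem eight_trans {e : G} (he : e ∈ C.eight) (h1 : e ≠ 1) : ∃ n ∈ C.nEight, n * z * n⁻¹ = e := by
  obtain ⟨u, hu, hu1, huz, k, hk, hkE, hkne⟩ := C.exists_six
  have hmove : ∃ n ∈ C.nEight, n * z * n⁻¹ ≠ z := by
    by_contra hall
    push Not at hall
    obtain ⟨g, hgQ, hgE, hgz⟩ := C.exists_conj_eight hu hu1 huz
    apply hkne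
    have hn : g⁻¹ * k * g ∈ C.nEight := by
      refine C.mem_nEight.2 ⟨?_, mul_mem (mul_mem (inv_mem hgE) (C.mem_nEight.1 (C.cyz_le hk)).2) hgE⟩
      have := C.commute_conj ((normalizer (zpowers y : Set G)).inv_mem hgQ) (mem_cyz.1 hk).1
      rwa [inv_inv] at this
    have h := hall _ hn
    rw [← hgz]
    calc k * (g * z * g⁻¹) * k⁻¹ = g * (g⁻¹ * k * g * z * (g⁻¹ * k * g)⁻¹) * g⁻¹ := by group
      _ = g * z * g⁻¹ := by rw [h]
  obtain ⟨n, hn, hne⟩ := hmove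
  by_cases hz : e = z
  · exact ⟨1, one_mem _, by rw [hz]; group⟩
  have hnE : n * z * n⁻¹ ∈ C.eight := C.nEight_conj hn C.z_mem_eight
  have hn1 : n * z * n⁻¹ ≠ 1 := fun h => C.D.z_ne (conj_eq_one_iff.1 h)
  obtain ⟨k', hk', hke⟩ := C.six_trans hnE hn1 hne he h1 hz
  exact ⟨k' * n, mul_mem (C.cyz_le hk') hn, by rw [← hke]; group⟩

/-- The order of a subgroup of `O₂(C(z))` containing `z` with given vectors. -/
theorem card_vecs {K : Subgroup G} (hK : K ≤ oc z) (hzK : z ∈ K) {l : List ℕ} (hlt : ∀ r ∈ l, r < 4096)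
    (hvec : ∀ v : V, (∃ e ∈ K, vec π e = v) ↔ ∃ r ∈ l, Rep.lin B r = v) :
    Nat.card ↥K = 2 * l.toFinset.card := by
  classical
  let F : ↥K →* Multiplicative V := MonoidHom.mk' (fun e => Multiplicative.ofAdd (vec π (e : G)))
    fun a b => by
      show Multiplicative.ofAdd (vec π ((a : G) * b)) = _
      rw [vec_mul (hK a.2) (hK b.2), ofAdd_add]
  have hrange : (F.range : Set (Multiplicative V)) =
      ↑(l.toFinset.image fun r => Multiplicative.ofAdd (Rep.lin B r)) := by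
    ext v
    simp only [SetLike.mem_coe, MonoidHom.mem_range, Finset.coe_image, Set.mem_image, List.coe_toFinset,
      Set.mem_setOf_eq]
    constructor
    · rintro ⟨⟨e, he⟩, rfl⟩
      obtain ⟨r, hr, h⟩ := (hvec _).1 ⟨e, he, rfl⟩
      exact ⟨r, hr, congrArg Multiplicative.ofAdd h⟩
    · rintro ⟨r, hr, rfl⟩
      obtain ⟨e, he, hv⟩ := (hvec _).2 ⟨r, hr, rfl⟩
      exact ⟨⟨e, he⟩, congrArg Multiplicative.ofAdd hv⟩
  have hr : Nat.card ↥F.range = l.toFinset.card := by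
    rw [← SetLike.coe_sort_coe, Nat.card_coe_set_eq, hrange, Set.ncard_coe_finset,
      Finset.card_image_of_injOn]
    intro a ha b hb e
    simp only [Finset.mem_coe, List.mem_toFinset] at ha hb
    exact C.hM.lin_inj (hlt a ha) (hlt b hb) (Multiplicative.ofAdd.injective e)
  have hk : Nat.card ↥F.ker = 2 := by
    have e : F.ker = (zpowers z).subgroupOf K := by
      ext a
      rw [MonoidHom.mem_ker, mem_subgroupOf, C.D.mem_zp, ← C.D.vec_eq_zero (hK a.2)]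
      exact ofAdd_eq_one
    rw [e, Nat.card_congr (subgroupOfEquivOfLe (zpowers_le.2 hzK)).toEquiv, Nat.card_zpowers,
      C.D.set'.ord]
  rw [← F.ker.card_mul_index, Subgroup.index_ker, hk, hr]

theorem card_cyz_oc : Nat.card ↥(oc z ⊓ cyz z y) = 32 := by
  rw [C.card_vecs inf_le_left ⟨C.D.z_mem, mem_cyz.2 ⟨(C.D.comm_z C.ymem.1).symm, Commute.refl z⟩⟩
    (l := fixL) (fun r hr => C.fix_lt hr)]
  · decide
  intro v
  constructor
  · rintro ⟨e, ⟨he, hey⟩, rfl⟩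
    obtain ⟨r, hr, hre⟩ := C.hM.code_cases (vec π e)
    refine ⟨r, (fixed_iff C.hM C.hη hr).1 ?_, hre⟩
    rw [hre]
    exact (C.commute_oc_iff he).1 (mem_cyz.1 hey).1
  · rintro ⟨r, hr, rfl⟩
    obtain ⟨e, he, hey, hv⟩ := C.exists_fix hr
    exact ⟨e, ⟨he, hey⟩, hv⟩

theorem code_lift {M : List ℕ} (hM : M ∈ centY) :
    ∃ m ∈ cyz z y, Orbits.PActs B (lin ρ m) M := by
  obtain ⟨w, hw, hwy, hwa⟩ := C.exists_omega
  obtain ⟨s, hs, hsy, hsa⟩ := C.exists_sigma_lift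
  have hy : y ∈ cyz z y := mem_cyz.2 ⟨Commute.refl y, C.D.comm_z C.ymem.1⟩
  have hH : ∀ {a : G}, a ∈ cyz z y → a ∈ centralizer ({z} : Set G) := fun ha => ha.2
  have mk : ∀ {a b : G} {K L : List ℕ}, (a ∈ cyz z y ∧ Orbits.PActs B (lin ρ a) K) →
      (b ∈ cyz z y ∧ Orbits.PActs B (lin ρ b) L) →
      (a * b ∈ cyz z y ∧ Orbits.PActs B (lin ρ (a * b)) (Orbits.comp K L)) := fun ha hb =>
    ⟨mul_mem ha.1 hb.1, by rw [(C.D.lin_mul (hH ha.1) (hH hb.1)).1]; exact ha.2.mul hb.2⟩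
  have h1 : (1 : G) ∈ cyz z y ∧ Orbits.PActs B (lin ρ (1 : G)) Orbits.idM :=
    ⟨one_mem _, by rw [(C.D.lin_oc (one_mem _)).1]; exact C.hM.acts_idM⟩
  have hY : y ∈ cyz z y ∧ Orbits.PActs B (lin ρ y) Rep.Ym :=
    ⟨hy, by rw [(C.D.lin_mSub C.ymem).1, C.yact]; exact C.hη⟩
  have hW : w ∈ cyz z y ∧ Orbits.PActs B (lin ρ w) Rep.Wm :=
    ⟨hwy, by rw [(C.D.lin_mSub hw).1]; exact hwa⟩
  have hS : s ∈ cyz z y ∧ Orbits.PActs B (lin ρ s) Rep.Sg :=
    ⟨hsy, by rw [(C.D.lin_mSub hs).1]; exact hsa⟩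
  have h := memM_iff.1 (List.all_eq_true.1 centY_prod M hM)
  rw [prodL, List.mem_flatMap] at h
  obtain ⟨a, ha, h⟩ := h
  rw [List.mem_flatMap] at h
  obtain ⟨b, hb, h⟩ := h
  obtain ⟨ga, hga⟩ : ∃ g, g ∈ cyz z y ∧ Orbits.PActs B (lin ρ g) a := by
    simp only [List.mem_cons, List.not_mem_nil, or_false] at ha
    rcases ha with rfl | rfl | rfl | rfl | rfl
    exacts [⟨_, h1⟩, ⟨_, hY⟩, ⟨_, mk hY hY⟩, ⟨_, mk hY (mk hY hY)⟩, ⟨_, mk hY (mk hY (mk hY hY))⟩]
  obtain ⟨gb, hgb⟩ : ∃ g, g ∈ cyz z y ∧ Orbits.PActs B (lin ρ g) b := by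
    simp only [List.mem_cons, List.not_mem_nil, or_false] at hb
    rcases hb with rfl | rfl | rfl
    exacts [⟨_, h1⟩, ⟨_, hW⟩, ⟨_, mk hW hW⟩]
  simp only [List.mem_cons, List.not_mem_nil, or_false] at h
  rcases h with rfl | rfl
  exacts [⟨_, (mk hga hgb).1, (mk hga hgb).2⟩, ⟨_, (mk (mk hga hgb) hS).1, (mk (mk hga hgb) hS).2⟩]

theorem good_centY {M : List ℕ} (hM : M ∈ centY) : Orbits.goodM M = true := by
  have h := centY_ok
  simp only [Bool.and_eq_true, List.all_eq_true] at h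
  exact (h.2 M hM).1

theorem card_cyz : Nat.card ↥(cyz z y) = 960 := by
  classical
  let F : ↥(cyz z y) →* Equiv.Perm V := (ActData.linHom C.D).comp (inclusion inf_le_right)
  have hk : Nat.card ↥F.ker = 32 := by
    have e : F.ker = (oc z ⊓ cyz z y).subgroupOf (cyz z y) := by
      ext a
      rw [MonoidHom.mem_ker, mem_subgroupOf, mem_inf, and_iff_left a.2,
        ← C.D.lin_eq_one a.2.2]
      rfl
    rw [e, Nat.card_congr (subgroupOfEquivOfLe inf_le_right).toEquiv, C.card_cyz_oc]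
  choose g hg hga using fun M : {M // M ∈ centY} => C.code_lift M.2
  let φ : {M // M ∈ centY} → ↥F.range := fun M => ⟨_, ⟨g M, hg M⟩, rfl⟩
  have hφ : Function.Bijective φ := by
    constructor
    · intro a b e
      have e' : lin ρ (g a) = lin ρ (g b) := congrArg Subtype.val e
      exact Subtype.ext (C.hM.code_unique (hga a) (e' ▸ hga b) (C.good_centY a.2) (C.good_centY b.2))
    · rintro ⟨γ, ⟨a, ha⟩, rfl⟩
      obtain ⟨M, hM, hMa⟩ := C.lin_code ha.2 (mem_cyz.1 ha).1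
      exact ⟨⟨M, hM⟩, Subtype.ext (C.hM.acts_eq (hga ⟨M, hM⟩) hMa)⟩
  have hr : Nat.card ↥F.range = 30 := by
    rw [← Nat.card_congr (Equiv.ofBijective φ hφ)]
    have hnd : centY.Nodup := by decide +kernel
    rw [Nat.card_eq_fintype_card, Fintype.card_of_subtype centY.toFinset (fun M => List.mem_toFinset),
      List.toFinset_card_of_nodup hnd]
    rfl
  rw [← F.ker.card_mul_index, Subgroup.index_ker, hk, hr]

theorem card_nEight : Nat.card ↥C.nEight = 6720 := by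
  classical
  have he : {e : G | ∃ k ∈ C.nEight, k * z * k⁻¹ = e} = (C.eight : Set G) \ {1} := by
    ext e
    simp only [Set.mem_setOf_eq, Set.mem_sdiff, SetLike.mem_coe, Set.mem_singleton_iff]
    constructor
    · rintro ⟨k, hk, rfl⟩
      exact ⟨C.nEight_conj hk C.z_mem_eight, fun h => C.D.z_ne (conj_eq_one_iff.1 h)⟩
    · rintro ⟨he, h1⟩
      exact C.eight_trans he h1
  have hi : C.nEight ⊓ centralizer ({z} : Set G) = cyz z y := by
    refine le_antisymm (fun x hx => ⟨hx.1.1, hx.2⟩) fun x hx => ⟨C.cyz_le hx, hx.2⟩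
  rw [card_conj_orbit C.nEight z, he, hi, C.card_cyz,
    Set.ncard_sdiff_singleton_of_mem C.eight.one_mem, ← Nat.card_coe_set_eq]
  simp only [SetLike.coe_sort_coe, C.card_eight]

/-- **The centraliser of the group of order eight and of `y`.** -/
theorem cent_eight {x : G} (hx : Commute x y) (hxE : ∀ e ∈ C.eight, Commute x e) :
    ∃ a ∈ zpowers y, ∃ e ∈ C.eight, x = a * e := by
  have hxz : Commute x z := hxE z C.z_mem_eight
  have hxH : x ∈ centralizer ({z} : Set G) := mem_centralizer_singleton_iff.2 hxz.eq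
  obtain ⟨M, hM, hMa⟩ := C.lin_code hxH hx
  have hfix : ∀ r ∈ lineL, Rep.app M r = r := by
    intro r hr
    obtain ⟨e, he, hv⟩ := C.D.exists_vec (Rep.lin B r)
    have hc := hxE e (C.mem_eight.2 ⟨he, r, hr, hv⟩)
    have h := C.D.vec_conj_lin hxH he
    rw [hc.eq, mul_inv_cancel_right, hv, hMa] at h
    exact (C.hM.lin_inj (C.line_lt hr) (Orbits.app_lt_of_good (C.good_centY hM) r) h).symm
  have hp := List.all_eq_true.1 centY_fix_line M hM
  have hall : (lineL.all fun r => Nat.beq (Rep.app M r) r) = true :=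
    List.all_eq_true.2 fun r hr => by rw [Nat.beq_eq]; exact hfix r hr
  rw [hall] at hp
  simp only [Bool.not_true, Bool.false_or, Bool.or_eq_true, Orbits.eqM_iff] at hp
  have hy : y ∈ centralizer ({z} : Set G) := C.ymem.1
  have hY : Orbits.PActs B (lin ρ y) Rep.Ym := by rw [(C.D.lin_mSub C.ymem).1, C.yact]; exact C.hη
  have mk : ∀ {a b : G} {K L : List ℕ}, (a ∈ zpowers y ∧ Orbits.PActs B (lin ρ a) K) →
      (b ∈ zpowers y ∧ Orbits.PActs B (lin ρ b) L) →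
      (a * b ∈ zpowers y ∧ Orbits.PActs B (lin ρ (a * b)) (Orbits.comp K L)) := fun ha hb =>
    ⟨mul_mem ha.1 hb.1, by
      rw [(C.D.lin_mul (zpowers_le.2 hy ha.1) (zpowers_le.2 hy hb.1)).1]; exact ha.2.mul hb.2⟩
  have h0 : (1 : G) ∈ zpowers y ∧ Orbits.PActs B (lin ρ (1 : G)) Orbits.idM :=
    ⟨one_mem _, by rw [(C.D.lin_oc (one_mem _)).1]; exact C.hM.acts_idM⟩
  have h1 : y ∈ zpowers y ∧ Orbits.PActs B (lin ρ y) Rep.Ym := ⟨mem_zpowers y, hY⟩
  obtain ⟨a, ha, haM⟩ : ∃ a, a ∈ zpowers y ∧ Orbits.PActs B (lin ρ a) M := by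
    rcases hp with (((rfl | rfl) | rfl) | rfl) | rfl
    exacts [⟨_, h0⟩, ⟨_, h1⟩, ⟨_, mk h1 h1⟩, ⟨_, mk h1 (mk h1 h1)⟩, ⟨_, mk h1 (mk h1 (mk h1 h1))⟩]
  have haH : a ∈ centralizer ({z} : Set G) := zpowers_le.2 hy ha
  have hay : Commute (a⁻¹ * x) y := by
    obtain ⟨k, rfl⟩ := ha
    exact (((Commute.refl y).zpow_left k).inv_left).mul_left hx
  have he : a⁻¹ * x ∈ oc z := by
    refine (C.D.lin_eq_one (mul_mem (inv_mem haH) hxH)).1 ?_
    rw [(C.D.lin_mul (inv_mem haH) hxH).1, C.D.lin_inv haH, C.hM.acts_eq haM hMa, inv_mul_cancel]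
  refine ⟨a, ha, a⁻¹ * x, ?_, by group⟩
  obtain ⟨f, hf, hfe⟩ := C.hM.code_cases (vec π (a⁻¹ * x))
  have hffix : f ∈ fixL := (fixed_iff C.hM C.hη hf).1 (by rw [hfe]; exact (C.commute_oc_iff he).1 hay)
  have hperp := List.all_eq_true.1 line_perp f hffix
  simp only [Bool.or_eq_true, List.any_eq_true] at hperp
  rcases hperp with h | ⟨r, hr, hrf⟩
  · exact C.mem_eight.2 ⟨he, f, memB_iff.1 h, hfe.symm⟩
  · exfalso
    obtain ⟨e, he', hv⟩ := C.D.exists_vec (Rep.lin B r)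
    have heE : e ∈ C.eight := C.mem_eight.2 ⟨he', r, hr, hv⟩
    have hce : Commute e (a⁻¹ * x) := by
      have h1 : Commute e a := C.commute_zpowers (C.eight_commute heE) ha
      exact h1.inv_right.mul_right (hxE e heE).symm
    rw [C.polar_bv (C.line_lt hr) hf he' he hv hfe.symm, hrf] at hce
    exact absurd hce (by decide)

end Ctx

end Cfsg.Agent.J4Type.Five
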