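import Cfsg.Agent.J4Type.Five.Invol

/-!
# The normaliser of a subgroup of order five
-/

set_option autoImplicit false

open Cfsg Subgroup

namespace Cfsg.Agent.J4Type.Five

open LargeExtra (oc oc_le oc_conj_mem)

universe u

variable {G : Type u} [Group G] [Finite G]
variable {z : G} {P : Subgroup G} {V : Type*} [AddCommGroup V]
  {π : ↥(oc z) →* Multiplicative V} {ρ : ↥(mSub z P) →* Equiv.Perm V} {q : V → ZMod 2} {B : List V}
  {y : G} {η : Equiv.Perm V}

theorem conj_pow_two {y n : G} (h : n * y * n⁻¹ = y ^ 2) (k : ℕ) :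
    n ^ k * y * (n ^ k)⁻¹ = y ^ (2 ^ k) := by
  induction k with
  | zero => simp
  | succ k ih =>
    calc n ^ (k + 1) * y * (n ^ (k + 1))⁻¹ = n * (n ^ k * y * (n ^ k)⁻¹) * n⁻¹ := by
          rw [pow_succ']; group
      _ = (n * y * n⁻¹) ^ (2 ^ k) := by rw [ih, conj_pow]
      _ = y ^ (2 ^ (k + 1)) := by rw [h, ← pow_mul, pow_succ']

namespace Ctx

variable (C : Ctx z P π ρ q B y η)
include C

theorem y_pow_eq {i j : ℕ} (h : i % 5 = j % 5) : y ^ i = y ^ j := by
  rw [← pow_mod_orderOf, C.yfive, h, ← C.yfive, pow_mod_orderOf]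

theorem y_pow_inj {i j : ℕ} (h : y ^ i = y ^ j) : i % 5 = j % 5 := by
  have := pow_eq_pow_iff_modEq.1 h
  rwa [C.yfive] at this

theorem cent_zpowers : centralizer (zpowers y : Set G) = centralizer ({y} : Set G) := by
  refine le_antisymm (centralizer_le (Set.singleton_subset_iff.2 (mem_zpowers y))) fun g hg => ?_
  refine mem_centralizer_iff.2 fun w hw => ?_
  exact (C.commute_zpowers (mem_centralizer_singleton_iff.1 hg : Commute g y) hw).eq.symm

theorem cent_le_normalizer : centralizer ({y} : Set G) ≤ normalizer (zpowers y : Set G) := fun g hg => by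
  refine C.mem_normalizer_of_conj ?_
  rw [mul_inv_eq_iff_eq_mul.2 (mem_centralizer_singleton_iff.1 hg)]
  exact mem_zpowers y

/-- A subgroup of `N(⟨y⟩)` inducing an automorphism of order four. -/
theorem card_eq_four {K : Subgroup G} (hK : K ≤ normalizer (zpowers y : Set G)) {k : G} (hk : k ∈ K)
    (h : k * y * k⁻¹ = y ^ 2) : Nat.card ↥K = 4 * Nat.card ↥(K ⊓ centralizer ({y} : Set G)) := by
  have he : {e : G | ∃ g ∈ K, g * y * g⁻¹ = e} = (zpowers y : Set G) \ {1} := by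
    ext e
    simp only [Set.mem_setOf_eq, Set.mem_sdiff, SetLike.mem_coe, Set.mem_singleton_iff]
    constructor
    · rintro ⟨g, hg, rfl⟩
      refine ⟨(mem_normalizer_iff.1 (hK hg) y).1 (mem_zpowers y), fun h1 => ?_⟩
      have := C.yfive
      rw [conj_eq_one_iff.1 h1, orderOf_one] at this
      omega
    · rintro ⟨he, h1⟩
      obtain ⟨i, rfl⟩ := (isOfFinOrder_of_finite y).mem_powers_iff_mem_zpowers.2 he
      have hi : i % 5 ≠ 0 := fun h0 => h1 (by
        show y ^ i = 1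
        rw [C.y_pow_eq (j := 0) (by simpa using h0), pow_zero])
      have hj : ∃ j, 2 ^ j % 5 = i % 5 := by
        have h5 : i % 5 = 1 ∨ i % 5 = 2 ∨ i % 5 = 3 ∨ i % 5 = 4 := by omega
        rcases h5 with h5 | h5 | h5 | h5 <;> rw [h5]
        exacts [⟨0, rfl⟩, ⟨1, rfl⟩, ⟨3, rfl⟩, ⟨2, rfl⟩]
      obtain ⟨j, hj⟩ := hj
      exact ⟨k ^ j, pow_mem hk j, by rw [conj_pow_two h]; exact C.y_pow_eq hj⟩
  rw [card_conj_orbit K y, he, Set.ncard_sdiff_singleton_of_mem (zpowers y).one_mem,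
    ← Nat.card_coe_set_eq]
  simp only [SetLike.coe_sort_coe, C.card_Q]

theorem exists_two : ∃ m ∈ normalizer (zpowers y : Set G), m * y * m⁻¹ = y ^ 2 := by
  obtain ⟨φ, hφ⟩ := C.hM.ex Rep.F0 (by simp [Orbits.allGens])
  have hφΓ : φ ∈ ρ.range := by
    rw [C.hM.gen]
    exact subset_closure ⟨Rep.F0, by simp [Orbits.allGens], hφ⟩
  obtain ⟨⟨m, hm⟩, hmφ⟩ := hφΓ
  have ha : act ρ m = φ := by rw [act_of_mem hm]; exact hmφ
  have hrel : φ * η = η * η * φ := by
    refine C.hM.acts_eq (hφ.mul C.hη) ?_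
    rw [Orbits.eqM_iff.1 F0_Ym.1]
    exact (C.hη.mul C.hη).mul hφ
  have hy := C.ymem
  have hc : m * y * m⁻¹ ∈ mSub z P := mul_mem (mul_mem hm hy) (inv_mem hm)
  have h1 : act ρ ((y * y)⁻¹ * (m * y * m⁻¹)) = 1 := by
    rw [act_mul (inv_mem (mul_mem hy hy)) hc, act_inv (mul_mem hy hy), act_mul hy hy,
      act_mul (mul_mem hm hy) (inv_mem hm), act_mul hm hy, act_inv hm, C.yact, ha, hrel,
      mul_inv_cancel_right, inv_mul_cancel]
  have key : m * y * m⁻¹ = y * y := by
    rcases (C.D.act_eq_one (mul_mem (inv_mem (mul_mem hy hy)) hc)).1 h1 with h2 | h2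
    · exact (inv_mul_eq_one.1 h2).symm
    · exfalso
      rw [inv_mul_eq_iff_eq_mul] at h2
      have h5 : (m * y * m⁻¹) ^ 5 = 1 := by rw [conj_pow, C.five_pow]; group
      have hcz : Commute (y * y) z :=
        (C.D.comm_z (C.D.mSub_le hy)).mul_left (C.D.comm_z (C.D.mSub_le hy))
      rw [h2, hcz.mul_pow, ← pow_two, ← pow_mul, Nat.mul_comm, pow_mul, C.five_pow, one_pow, one_mul,
        show z ^ 5 = z * z * (z * z) * z by simp only [pow_succ, pow_zero, one_mul, mul_assoc],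
        C.D.zz, one_mul, one_mul] at h5
      exact C.D.z_ne h5
  refine ⟨m, C.mem_normalizer_of_conj ?_, by rw [key, pow_two]⟩
  rw [key]
  exact mul_mem (mem_zpowers y) (mem_zpowers y)

theorem card_normalizer : Nat.card ↥(normalizer (zpowers y : Set G)) = 2 ^ 8 * 3 * 5 * 7 := by
  obtain ⟨m, hm, hmy⟩ := C.exists_two
  rw [C.card_eq_four le_rfl hm hmy, inf_eq_right.2 C.cent_le_normalizer, C.card_cent]
  norm_num

/-- **`⟨y⟩` is a Sylow subgroup of `G`.** -/
theorem not_25 : ¬ 25 ∣ Nat.card G := by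
  intro h
  have : Fact (Nat.Prime 5) := ⟨by norm_num⟩
  obtain ⟨S, hS, hQS⟩ := Sylow.exists_subgroup_card_pow_succ (p := 5) (n := 1) (by norm_num; exact h)
    (H := zpowers y) (by rw [C.card_Q, pow_one])
  have hab : ∀ a b : ↥S, a * b = b * a := (IsPGroup.isMulCommutative_of_card_eq_prime_sq (p := 5) hS).is_comm.comm
  have hle : S ≤ centralizer ({y} : Set G) := fun g hg => mem_centralizer_singleton_iff.2
    (congrArg Subtype.val (hab ⟨g, hg⟩ ⟨y, hQS (mem_zpowers y)⟩))
  have hd := card_dvd_of_le hle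
  rw [hS, C.card_cent] at hd
  norm_num at hd

end Ctx

end Cfsg.Agent.J4Type.Five
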