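import Mathlib
import Cfsg.Agent.Classical.LinearBasic

/-!
# A self-centralising normal elementary abelian subgroup of order eight in a group of order 1344
-/

set_option autoImplicit false

namespace Cfsg.Agent.J4Type.Five

universe u

variable {J : Type u} [Group J] [Finite J]

theorem quot_sl3 (E : Subgroup J) [hn : E.Normal] (hcomm : ∀ a ∈ E, ∀ b ∈ E, a * b = b * a)
    (hsq : ∀ a ∈ E, a * a = 1) (h8 : Nat.card ↥E = 8)
    (hself : ∀ g : J, (∀ e ∈ E, g * e = e * g) → g ∈ E) (hJ : Nat.card J = 1344) :
    Nonempty (J ⧸ E ≃* Matrix.SpecialLinearGroup (Fin 3) (ZMod 2)) := by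
  classical
  obtain ⟨φ⟩ : Nonempty (Additive ↥E ≃+ (Fin 3 → ZMod 2)) := by
    letI : CommGroup ↥E :=
      { (inferInstance : Group ↥E) with mul_comm := fun a b => Subtype.ext (hcomm a a.2 b b.2) }
    letI : Module (ZMod 2) (Additive ↥E) := AddCommGroup.zmodModule (fun x => by
      rw [two_nsmul]
      exact Additive.toMul.injective (Subtype.ext (hsq _ (Additive.toMul x).2)))
    have hd : Module.finrank (ZMod 2) (Additive ↥E) = 3 := by
      have h := Module.natCard_eq_pow_finrank (K := ZMod 2) (V := Additive ↥E)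
      have hc : Nat.card (Additive ↥E) = 8 := (Nat.card_congr Additive.ofMul).symm.trans h8
      rw [hc, Nat.card_zmod] at h
      exact (Nat.pow_right_injective (le_refl 2) (show 2 ^ 3 = 2 ^ _ from h)).symm
    exact ⟨(Module.finBasisOfFinrankEq (ZMod 2) (Additive ↥E) hd).equivFun.toAddEquiv⟩
  let f : (Fin 3 → ZMod 2) → J := fun v => ((Additive.toMul (φ.symm v) : ↥E) : J)
  have fmem : ∀ v, f v ∈ E := fun v => (Additive.toMul (φ.symm v)).2
  have fadd : ∀ u v, f (u + v) = f u * f v := fun u v => by
    show ((Additive.toMul (φ.symm (u + v)) : ↥E) : J) = _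
    rw [map_add]
    rfl
  have finj : Function.Injective f := fun u v h =>
    φ.symm.injective (Additive.toMul.injective (Subtype.ext h))
  have fsurj : ∀ e ∈ E, ∃ v, f v = e := fun e he => ⟨φ (Additive.ofMul ⟨e, he⟩), by
    show ((Additive.toMul (φ.symm (φ _)) : ↥E) : J) = e
    rw [AddEquiv.symm_apply_apply]
    rfl⟩
  have fzero : f 0 = 1 := by
    have h := fadd 0 0
    rw [add_zero] at h
    exact left_eq_mul.1 h
  choose c hc using fun (g : J) v => fsurj _ (hn.conj_mem _ (fmem v) g)
  let L : J → ((Fin 3 → ZMod 2) →ₗ[ZMod 2] (Fin 3 → ZMod 2)) := fun g =>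
    AddMonoidHom.toZModLinearMap 2
      { toFun := c g
        map_zero' := finj (by rw [hc, fzero]; group)
        map_add' := fun u v => finj (by rw [hc, fadd, fadd, hc, hc]; group) }
  have hL : ∀ g v, f (L g v) = g * f v * g⁻¹ := fun g v => hc g v
  have hone : L 1 = LinearMap.id := LinearMap.ext fun v => finj (by rw [hL]; simp)
  have hmul : ∀ a b, L (a * b) = L a ∘ₗ L b := fun a b => LinearMap.ext fun v => finj (by
    rw [LinearMap.comp_apply, hL, hL, hL]; group)
  have hdet : ∀ g, (LinearMap.toMatrix' (L g)).det = 1 := by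
    intro g
    have key : ∀ x y : ZMod 2, x * y = 1 → x = 1 := by decide
    refine key _ (LinearMap.toMatrix' (L g⁻¹)).det ?_
    rw [← Matrix.det_mul, ← LinearMap.toMatrix'_comp, ← hmul, mul_inv_cancel, hone,
      LinearMap.toMatrix'_id, Matrix.det_one]
  let ψ : J →* Matrix.SpecialLinearGroup (Fin 3) (ZMod 2) :=
    { toFun := fun g => ⟨LinearMap.toMatrix' (L g), hdet g⟩
      map_one' := Subtype.ext (by simp [hone])
      map_mul' := fun a b => Subtype.ext (by
        show LinearMap.toMatrix' (L (a * b)) = LinearMap.toMatrix' (L a) * LinearMap.toMatrix' (L b)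
        rw [hmul, LinearMap.toMatrix'_comp]) }
  have hker : ψ.ker = E := by
    ext g
    rw [MonoidHom.mem_ker]
    constructor
    · intro hg
      have hg' : L g = LinearMap.id := LinearMap.toMatrix'.injective (by
        rw [LinearMap.toMatrix'_id]; exact congrArg Subtype.val hg)
      refine hself g fun e he => ?_
      obtain ⟨v, rfl⟩ := fsurj e he
      have := hL g v
      rw [hg', LinearMap.id_apply] at this
      exact mul_inv_eq_iff_eq_mul.1 this.symm
    · intro hg
      refine Subtype.ext ?_
      show LinearMap.toMatrix' (L g) = 1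
      rw [← LinearMap.toMatrix'_id]
      congr 1
      refine LinearMap.ext fun v => finj ?_
      rw [hL, LinearMap.id_apply, hcomm g hg _ (fmem v), mul_inv_cancel_right]
  have hcard : Nat.card (Matrix.SpecialLinearGroup (Fin 3) (ZMod 2)) = 168 := by
    have h2 := Classical.card_sl_mul (F := ZMod 2) (ZMod.card 2) 3 (by norm_num)
    rw [show (∏ i : Fin 3, (2 ^ 3 - 2 ^ (i : ℕ))) = 168 from by decide, show 2 - 1 = 1 from rfl,
      one_mul] at h2
    exact h2
  have hsurj : Function.Surjective ψ := by
    refine MonoidHom.range_eq_top.1 (Subgroup.eq_top_of_card_eq _ ?_)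
    have := ψ.ker.card_mul_index
    rw [Subgroup.index_ker, hker, h8, hJ] at this
    rw [hcard]
    omega
  exact ⟨(QuotientGroup.quotientMulEquivOfEq hker.symm).trans
    (QuotientGroup.quotientKerEquivOfSurjective ψ hsurj)⟩

end Cfsg.Agent.J4Type.Five
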