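import Cfsg.Agent.J4Type.Five.Normalizer
import Cfsg.Agent.J4Type.Five.Quot

/-!
# The complement `J` and the Frobenius group of order twenty
-/

set_option autoImplicit false

open Cfsg Subgroup

namespace Cfsg.Agent.J4Type.Five

open LargeExtra (oc oc_le oc_conj_mem)

universe u

variable {G : Type u} [Group G] [Finite G]
variable {z : G} {P : Subgroup G} {V : Type*} [AddCommGroup V]
  {π : ↥(oc z) →* Multiplicative V} {ρ : ↥(mSub z P) →* Equiv.Perm V} {q : V → ZMod 2} {B : List V}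
  {y : G} {η : Equiv.Perm V}

namespace Ctx

variable (C : Ctx z P π ρ q B y η)
include C

theorem exists_J : ∃ J : Subgroup G,
    IsInternalDirectProduct (zpowers y) J (centralizer ({y} : Set G)) ∧
      (∀ g ∈ centralizer ({y} : Set G), g ^ 5 ∈ J) ∧ Nat.card ↥J = 1344 := by
  classical
  set K := centralizer ({y} : Set G) with hK
  have hyK : y ∈ K := mem_centralizer_singleton_iff.2 rfl
  set N : Subgroup ↥K := (zpowers y).subgroupOf K with hN
  have hcomm : ∀ a ∈ zpowers y, ∀ b ∈ K, a * b = b * a := fun a ha b hb =>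
    (C.commute_zpowers (mem_centralizer_singleton_iff.1 hb : Commute b y) ha).eq.symm
  haveI : N.Normal := ⟨fun a ha g => by
    rw [hN, mem_subgroupOf, coe_mul, coe_mul, coe_inv, ← hcomm _ (mem_subgroupOf.1 ha) _ g.2,
      mul_inv_cancel_right]
    exact mem_subgroupOf.1 ha⟩
  have hN5 : Nat.card ↥N = 5 := by
    rw [hN, Nat.card_congr (subgroupOfEquivOfLe (zpowers_le.2 hyK)).toEquiv, C.card_Q]
  have hindex : N.index = 1344 := by
    have h := N.card_mul_index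
    rw [hN5, show Nat.card ↥K = 6720 from C.card_cent] at h
    omega
  obtain ⟨H, hH⟩ := exists_right_complement'_of_coprime (N := N)
    (by rw [hN5, hindex]; decide)
  have hdec : ∀ g ∈ K, ∃ a ∈ zpowers y, ∃ b ∈ H, g = a * (b : G) := by
    intro g hg
    obtain ⟨⟨a, b⟩, hab⟩ := hH.2 ⟨g, hg⟩
    exact ⟨(a : ↥K), mem_subgroupOf.1 a.2, (b : ↥K), b.2, congrArg Subtype.val hab.symm⟩
  refine ⟨H.map K.subtype, ⟨zpowers_le.2 hyK, map_subtype_le H, fun a ha b hb => ?_, ?_, ?_⟩, ?_, ?_⟩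
  · exact hcomm a ha b (map_subtype_le H hb)
  · refine (eq_bot_iff_forall _).2 ?_
    rintro _ ⟨ha, b, hb, rfl⟩
    have : (b : ↥K) ∈ N ⊓ H := ⟨mem_subgroupOf.2 ha, hb⟩
    rw [hH.disjoint.eq_bot, mem_bot] at this
    rw [this]; rfl
  · refine le_antisymm (sup_le (zpowers_le.2 hyK) (map_subtype_le H)) fun g hg => ?_
    obtain ⟨a, ha, b, hb, rfl⟩ := hdec g hg
    exact mul_mem (mem_sup_left ha) (mem_sup_right ⟨b, hb, rfl⟩)
  · intro g hg
    obtain ⟨a, ha, b, hb, rfl⟩ := hdec g hg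
    have h5 : a ^ 5 = 1 := by
      obtain ⟨k, rfl⟩ := ha
      show (y ^ k) ^ 5 = 1
      rw [← zpow_natCast, ← zpow_mul, mul_comm, zpow_mul, zpow_natCast, C.five_pow, one_zpow]
    rw [(show Commute a (b : G) from hcomm a ha b b.2).mul_pow, h5, one_mul]
    exact ⟨b ^ 5, pow_mem hb 5, by simp⟩
  · rw [card_map_of_injective K.subtype_injective]
    have h := hH.card_mul
    rw [hN5, show Nat.card ↥K = 6720 from C.card_cent] at h
    omega

variable {J : Subgroup G} (hd : IsInternalDirectProduct (zpowers y) J (centralizer ({y} : Set G)))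
  (hJ5 : ∀ g ∈ centralizer ({y} : Set G), g ^ 5 ∈ J)

include hd in
theorem J_le : J ≤ centralizer ({y} : Set G) := hd.2.1

include hd in
theorem J_nEight : J ≤ C.nEight := C.cent_eq ▸ C.J_le hd

include hJ5 in
theorem mem_J_of_sq {g : G} (hg : Commute g y) (h2 : g * g = 1) : g ∈ J := by
  have h := hJ5 g (mem_centralizer_singleton_iff.2 hg.eq)
  rwa [show g ^ 5 = g * g * (g * g) * g by simp only [pow_succ, pow_zero, one_mul, mul_assoc], h2,
    one_mul, one_mul] at h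

include hJ5 in
theorem eight_le_J : C.eight ≤ J := fun e he => C.mem_J_of_sq hJ5 (C.eight_commute he) (C.eight_sq he)

include hd hJ5 in
theorem exists_eight_quot (hcard : Nat.card ↥J = 1344) :
    ∃ (_ : (C.eight.subgroupOf J).Normal), IsElementaryAbelian 2 (C.eight.subgroupOf J) ∧
      Nat.card ↥(C.eight.subgroupOf J) = 8 ∧
      Nonempty (↥J ⧸ C.eight.subgroupOf J ≃* Matrix.SpecialLinearGroup (Fin 3) (ZMod 2)) := by
  have hn : (C.eight.subgroupOf J).Normal := ⟨fun a ha g =>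
    mem_subgroupOf.2 (C.nEight_conj (C.J_nEight hd g.2) (mem_subgroupOf.1 ha))⟩
  have hcomm : ∀ a ∈ C.eight.subgroupOf J, ∀ b ∈ C.eight.subgroupOf J, a * b = b * a := fun a ha b hb =>
    Subtype.ext (C.eight_comm (mem_subgroupOf.1 ha) (mem_subgroupOf.1 hb)).eq
  have hsq : ∀ a ∈ C.eight.subgroupOf J, a * a = 1 := fun a ha =>
    Subtype.ext (C.eight_sq (mem_subgroupOf.1 ha))
  have h8 : Nat.card ↥(C.eight.subgroupOf J) = 8 := by
    rw [Nat.card_congr (subgroupOfEquivOfLe (C.eight_le_J hJ5)).toEquiv, C.card_eight]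
  refine ⟨hn, ⟨⟨⟨fun a b => Subtype.ext (hcomm a a.2 b b.2)⟩⟩, fun a ha => by rw [pow_two, hsq a ha]⟩,
    h8, quot_sl3 _ hcomm hsq h8 (fun g hg => ?_) hcard⟩
  have hgy : Commute (g : G) y := C.nEight_commute (C.J_nEight hd g.2)
  obtain ⟨a, ha, e, he, hge⟩ := C.cent_eight hgy fun e he =>
    congrArg Subtype.val (hg ⟨e, C.eight_le_J hJ5 he⟩ (mem_subgroupOf.2 he))
  have haJ : a ∈ zpowers y ⊓ J := mem_inf.2 ⟨ha, by
    rw [eq_mul_inv_of_mul_eq hge.symm]
    exact mul_mem g.2 (inv_mem (C.eight_le_J hJ5 he))⟩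
  rw [hd.2.2.2.1, mem_bot] at haJ
  refine mem_subgroupOf.2 ?_
  rw [hge, haJ, one_mul]
  exact he

include hd hJ5 in
/-- **The extension is non-split.** -/
theorem no_complement [hn : (C.eight.subgroupOf J).Normal] (K : Subgroup ↥J) :
    ¬ (C.eight.subgroupOf J).IsComplement' K := by
  intro hK
  have hEK : ∀ g ∈ J, ∃ e ∈ C.eight, ∃ k : ↥J, k ∈ K ∧ g = e * (k : G) := by
    intro g hg
    obtain ⟨⟨a, b⟩, hab⟩ := hK.2 ⟨g, hg⟩
    exact ⟨_, mem_subgroupOf.1 a.2, (b : ↥J), b.2, (congrArg Subtype.val hab).symm⟩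
  have hKE : ∀ k : ↥J, k ∈ K → (k : G) ∈ C.eight → k = 1 := fun k hk hkE => by
    have : k ∈ C.eight.subgroupOf J ⊓ K := ⟨mem_subgroupOf.2 hkE, hk⟩
    rwa [hK.disjoint.eq_bot, mem_bot] at this
  -- the elements of `K` inside `O₂(C(z))`
  have hsing : ∀ k : ↥J, k ∈ K → (k : G) ∈ oc z → ∀ r, r < 4096 → vec π (k : G) = Rep.lin B r →
      Rep.qv r = 0 := by
    intro k hk hko r hr hv
    have hkk : (k : G) * k = 1 := by
      by_cases hq : q (vec π (k : G)) = 0
      · exact (C.D.sq_eq_one hko).2 hq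
      · exfalso
        have hz : (k : G) * k = z := by
          rw [vec_of_mem hko] at hq
          exact (C.D.square ⟨(k : G), hko⟩).2 hq
        have h1 := hKE (k * k) (mul_mem hk hk) (by rw [coe_mul, hz]; exact C.z_mem_eight)
        exact C.D.z_ne (hz.symm.trans (congrArg Subtype.val h1))
    have h0 : q (Rep.lin B r) = 0 := by rw [← hv]; exact (C.D.sq_eq_one hko).1 hkk
    rw [C.hM.q_eq r hr, ZMod.natCast_eq_zero_iff] at h0
    have hb := List.all_eq_true.1 Orbits.qv_le r (List.mem_range.2 hr)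
    simp only [Nat.blt_eq, decide_eq_true_eq] at hb
    omega
  -- lifts of the scalar and of the outer element in `J`
  obtain ⟨w, hwm, hwy, hwa⟩ := C.exists_omega
  obtain ⟨s, hsm, hsy, hsa⟩ := C.exists_sigma_lift
  let S : ℕ → Prop := fun r => r < 4096 ∧ ∃ k : ↥J, k ∈ K ∧ (k : G) ∈ oc z ∧ vec π (k : G) = Rep.lin B r
  have hadd : ∀ {a b : ℕ}, S a → S b → S (a ^^^ b) := by
    rintro a b ⟨ha, k, hk, hko, hkv⟩ ⟨hb, l, hl, hlo, hlv⟩
    refine ⟨Nat.xor_lt_two_pow (n := 12) ha hb, k * l, mul_mem hk hl, by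
      rw [coe_mul]; exact mul_mem hko hlo, ?_⟩
    rw [coe_mul, vec_mul hko hlo, hkv, hlv, C.hM.lin_add]
  have hclosed : ∀ {m : G} {M : List ℕ}, m ∈ mSub z P → m ∈ cyz z y →
      Orbits.PActs B (act ρ m) M → Orbits.goodM M = true →
      (act ρ m) ^ 25 = act ρ m → ∀ {r : ℕ}, S r → S (Rep.app M r) := by
    intro m M hm hmy hma hgood h25 r hr
    obtain ⟨hr', k, hk, hko, hkv⟩ := hr
    have hmJ : m ^ 25 ∈ J := by
      rw [show (25 : ℕ) = 5 * 5 from rfl, pow_mul]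
      exact hJ5 _ (pow_mem hmy.1 5)
    obtain ⟨e, he, l, hl, hel⟩ := hEK _ hmJ
    have hm25 : m ^ 25 ∈ centralizer ({z} : Set G) := pow_mem hmy.2 25
    have hlH : (l : G) ∈ centralizer ({z} : Set G) := by
      rw [eq_inv_mul_of_mul_eq hel.symm]
      exact mul_mem (inv_mem (oc_le z he.1)) hm25
    have hlin : lin ρ (l : G) = act ρ m := by
      have h : lin ρ (m ^ 25) = lin ρ e * lin ρ (l : G) := by
        rw [hel]; exact (C.D.lin_mul (oc_le z he.1) hlH).1
      rw [(C.D.lin_oc he.1).1, one_mul] at h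
      have h' : lin ρ (m ^ 25) = (lin ρ m) ^ 25 :=
        map_pow (ActData.linHom C.D) (⟨m, hm.1⟩ : ↥(centralizer ({z} : Set G))) 25
      rw [← h, h', (C.D.lin_mSub hm).1, h25]
    refine ⟨Orbits.app_lt_of_good hgood r, l * k * l⁻¹, mul_mem (mul_mem hl hk) (inv_mem hl), ?_, ?_⟩
    · rw [coe_mul, coe_mul, coe_inv]; exact oc_conj_mem hlH hko
    · rw [coe_mul, coe_mul, coe_inv, C.D.vec_conj_lin hlH hko, hlin, hkv, hma]
  have hW : ∀ {r : ℕ}, S r → S (Rep.app Rep.Wm r) := by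
    refine hclosed hwm hwy hwa (by decide +kernel) ?_
    have h3 : act ρ w * act ρ w * act ρ w = 1 := by
      refine C.hM.acts_eq ((hwa.mul hwa).mul hwa) ?_
      have e : Orbits.comp (Orbits.comp Rep.Wm Rep.Wm) Rep.Wm = Orbits.idM := by decide +kernel
      rw [e]; exact C.hM.acts_idM
    rw [show (25 : ℕ) = 3 * 8 + 1 from rfl, pow_succ, pow_mul,
      show act ρ w ^ 3 = 1 by rw [pow_succ, pow_two, h3], one_pow, one_mul]
  have hS' : ∀ {r : ℕ}, S r → S (Rep.app Rep.Sg r) := by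
    refine hclosed hsm hsy hsa Orbits.good_Sg ?_
    have h2 := C.hM.sigma_sq hsa
    rw [show (25 : ℕ) = 2 * 12 + 1 from rfl, pow_succ, pow_mul, pow_two, h2, one_pow, one_mul]
  -- a non-trivial element
  obtain ⟨t, hto, hty, htt, htE⟩ := C.exists_outer_invol
  obtain ⟨e, he, k, hk, htk⟩ := hEK t (C.mem_J_of_sq hJ5 (mem_cyz.1 hty).1 htt)
  have hkt : (k : G) = e⁻¹ * t := eq_inv_mul_of_mul_eq htk.symm
  have hko : (k : G) ∈ oc z := hkt ▸ mul_mem (inv_mem he.1) hto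
  have hkE : (k : G) ∉ C.eight := fun h => htE (htk ▸ mul_mem he h)
  obtain ⟨f, hf, hfv⟩ := C.hM.code_cases (vec π (k : G))
  have hS : S f := ⟨hf, k, hk, hko, hfv.symm⟩
  have hffix : f ∈ fixL := (fixed_iff C.hM C.hη hf).1 (by
    rw [hfv]; exact (C.commute_oc_iff hko).1 (C.nEight_commute (C.J_nEight hd k.2)))
  have hq0 : ∀ {r : ℕ}, S r → Rep.qv r = 0 := fun hr => by
    obtain ⟨hr', l, hl, hlo, hlv⟩ := hr
    exact hsing l hl hlo _ hr' hlv
  have h := List.all_eq_true.1 six_moved f hffix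
  simp only [Bool.or_eq_true, Bool.not_eq_true', Nat.beq_eq] at h
  rcases h with (h | h) | h
  · exact hkE (C.mem_eight.2 ⟨hko, f, memB_iff.1 h, hfv.symm⟩)
  · rw [hq0 hS] at h; exact absurd h (by decide)
  · rcases h with (h | h) | h
    · rw [show Nat.xor f (Rep.app Rep.Sg f) = f ^^^ Rep.app Rep.Sg f from rfl, hq0 (hadd hS (hS' hS))] at h
      omega
    · rw [show ∀ a b : ℕ, Nat.xor a b = a ^^^ b from fun _ _ => rfl, hq0 (hadd hS (hS' (hW hS)))] at h
      omega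
    · rw [show ∀ a b : ℕ, Nat.xor a b = a ^^^ b from fun _ _ => rfl,
        hq0 (hadd hS (hS' (hW (hW hS))))] at h
      omega

theorem cyz_seven {e x : G} (he : e ∈ C.eight) (h1 : e ≠ 1) (hxy : Commute x y) (h7 : orderOf x = 7)
    (hxe : Commute x e) : False := by
  obtain ⟨n, hn, hne⟩ := C.eight_trans he h1
  have hc : n⁻¹ * x * n ∈ cyz z y := by
    refine mem_cyz.2 ⟨((C.nEight_commute hn).inv_left.mul_left hxy).mul_left (C.nEight_commute hn), ?_⟩
    have h := hxe.map (MulAut.conj n⁻¹).toMonoidHom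
    simp only [MulEquiv.coe_toMonoidHom, MulAut.conj_apply, inv_inv, ← hne] at h
    rwa [show n⁻¹ * (n * z * n⁻¹) * n = z by group] at h
  have h := orderOf_dvd_natCard (⟨_, hc⟩ : ↥(cyz z y))
  have ho : orderOf (n⁻¹ * x * n) = 7 := by
    have := MulEquiv.orderOf_eq (MulAut.conj n⁻¹) x
    rwa [MulAut.conj_apply, inv_inv, h7] at this
  rw [Subgroup.orderOf_mk, ho, C.card_cyz] at h
  norm_num at h

/-- No involution of `C(y)` normalises a subgroup of order seven. -/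
theorem invol_seven {i x : G} (hi : Commute i y) (hx : Commute x y) (hi1 : i ≠ 1) (h2 : i * i = 1)
    (h7 : orderOf x = 7) (hn : i * x * i⁻¹ ∈ zpowers x) : False := by
  classical
  have hiN : i ∈ C.nEight := C.cent_eq.le (mem_centralizer_singleton_iff.2 hi.eq)
  have hxN : x ∈ C.nEight := C.cent_eq.le (mem_centralizer_singleton_iff.2 hx.eq)
  have hiinv : i⁻¹ = i := inv_eq_of_mul_eq_one_right h2
  have hx7 : x ^ 7 = 1 := by rw [← h7]; exact pow_orderOf_eq_one x
  obtain ⟨k, hk⟩ := (isOfFinOrder_of_finite x).mem_powers_iff_mem_zpowers.2 hn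
  simp only at hk
  have hkk : k * k % 7 = 1 := by
    have h : x ^ (k * k) = x ^ 1 := by
      calc x ^ (k * k) = (x ^ k) ^ k := pow_mul x k k
        _ = (i * x * i⁻¹) ^ k := by rw [hk]
        _ = i * (i * x * i⁻¹) * i⁻¹ := by rw [conj_pow, hk]
        _ = (i * i) * x * (i * i)⁻¹ := by group
        _ = x ^ 1 := by rw [h2]; group
    have := pow_eq_pow_iff_modEq.1 h
    rw [h7] at this
    exact this
  -- two fixed points of `i`
  let f : ↥C.eight →* ↥C.eight := MonoidHom.mk' (fun a => ⟨(a : G) * (i * a * i⁻¹),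
      mul_mem a.2 (C.nEight_conj hiN a.2)⟩) fun a b => Subtype.ext (by
    show (a : G) * b * (i * (a * b) * i⁻¹) = a * (i * a * i⁻¹) * (b * (i * b * i⁻¹))
    have hc := C.eight_comm b.2 (C.nEight_conj hiN a.2)
    calc (a : G) * b * (i * (a * b) * i⁻¹) = a * (b * (i * a * i⁻¹)) * (i * b * i⁻¹) := by group
      _ = a * ((i * a * i⁻¹) * b) * (i * b * i⁻¹) := by rw [hc.eq]
      _ = a * (i * a * i⁻¹) * (b * (i * b * i⁻¹)) := by group)
  have hfv : ∀ a : ↥C.eight, ((f a : ↥C.eight) : G) = a * (i * a * i⁻¹) := fun _ => rfl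
  have hle : f.range ≤ f.ker := by
    rintro _ ⟨a, rfl⟩
    rw [MonoidHom.mem_ker]
    refine Subtype.ext ?_
    rw [hfv, hfv, hiinv]
    have hm : i * (a : G) * i ∈ C.eight := by
      have := C.nEight_conj hiN a.2
      rwa [hiinv] at this
    calc (a : G) * (i * a * i) * (i * (a * (i * a * i)) * i)
        = a * (i * a * i) * (i * a * i * (a * (i * i))) := by group
      _ = a * ((i * a * i) * (i * a * i)) * a := by rw [h2]; group
      _ = 1 := by rw [C.eight_sq hm, mul_one, C.eight_sq a.2]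
  have hker3 : 3 ≤ Nat.card ↥f.ker := by
    have h := f.ker.card_mul_index
    rw [Subgroup.index_ker, C.card_eight] at h
    have hle' := Subgroup.card_le_of_le hle
    by_contra hlt
    have := Nat.mul_le_mul (show Nat.card ↥f.ker ≤ 2 by omega) (show Nat.card ↥f.range ≤ 2 by omega)
    omega
  obtain ⟨a, ha, b, hb, ha1, hb1, hab⟩ : ∃ a ∈ f.ker, ∃ b ∈ f.ker, a ≠ 1 ∧ b ≠ 1 ∧ a ≠ b := by
    have h3 : 2 < (f.ker : Set ↥C.eight).ncard := by
      rw [← Nat.card_coe_set_eq]; exact hker3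
    obtain ⟨a, ha, ha1⟩ := Set.exists_ne_of_one_lt_ncard (s := (f.ker : Set ↥C.eight)) (by omega) (1 : ↥C.eight)
    have h2' : 1 < ((f.ker : Set ↥C.eight) \ {a}).ncard := by
      rw [Set.ncard_sdiff_singleton_of_mem ha]; omega
    obtain ⟨b, hb, hb1⟩ := Set.exists_ne_of_one_lt_ncard h2' (1 : ↥C.eight)
    exact ⟨a, ha, b, hb.1, ha1, hb1, fun h => hb.2 h.symm⟩
  have hfix : ∀ c ∈ f.ker, i * (c : G) * i⁻¹ = c := by
    intro c hc
    have h := congrArg Subtype.val (MonoidHom.mem_ker.1 hc)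
    rw [hfv] at h
    calc i * (c : G) * i⁻¹ = (c : G)⁻¹ * (c * (i * c * i⁻¹)) := by group
      _ = (c : G)⁻¹ := by rw [show (c : G) * (i * c * i⁻¹) = 1 from h, mul_one]
      _ = c := inv_eq_of_mul_eq_one_right (C.eight_sq c.2)
  have ha1' : (a : G) ≠ 1 := fun h => ha1 (Subtype.ext h)
  -- the orbit of `a`
  set g : Fin 7 → G := fun j => x ^ (j : ℕ) * a * (x ^ (j : ℕ))⁻¹ with hg
  have hgmod : ∀ n : ℕ, x ^ n = x ^ (n % 7) := fun n => by rw [← h7, pow_mod_orderOf]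
  have hnfix : ∀ n : ℕ, n % 7 ≠ 0 → x ^ n * a * (x ^ n)⁻¹ ≠ a := by
    intro n hn0 hfix'
    have ho : orderOf (x ^ n) = 7 := by
      have : Fact (Nat.Prime 7) := ⟨by norm_num⟩
      refine orderOf_eq_prime (by rw [← pow_mul, Nat.mul_comm, pow_mul, hx7, one_pow]) fun h => ?_
      have := orderOf_dvd_of_pow_eq_one h
      rw [h7] at this
      omega
    exact C.cyz_seven a.2 ha1' (hx.pow_left n) ho (mul_inv_eq_iff_eq_mul.1 hfix')
  have hginj : Function.Injective g := by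
    intro j l hjl
    by_contra hne
    have hne' : (j : ℕ) ≠ l := fun h => hne (Fin.ext h)
    refine hnfix (7 - j + l) ?_ ?_
    · omega
    · have e : x ^ (7 - (j : ℕ)) = (x ^ (j : ℕ))⁻¹ := by
        refine eq_inv_of_mul_eq_one_left ?_
        rw [← pow_add, Nat.sub_add_cancel j.2.le, hx7]
      rw [pow_add, e]
      calc (x ^ (j : ℕ))⁻¹ * x ^ (l : ℕ) * a * ((x ^ (j : ℕ))⁻¹ * x ^ (l : ℕ))⁻¹
          = (x ^ (j : ℕ))⁻¹ * g l * x ^ (j : ℕ) := by rw [hg]; group
        _ = (x ^ (j : ℕ))⁻¹ * g j * x ^ (j : ℕ) := by rw [hjl]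
        _ = a := by rw [hg]; group
  have himage : Set.range g = (C.eight : Set G) \ {1} := by
    refine Set.eq_of_subset_of_ncard_le ?_ ?_ (Set.toFinite _)
    · rintro _ ⟨j, rfl⟩
      exact ⟨C.nEight_conj (pow_mem hxN _) a.2, fun h => ha1' (conj_eq_one_iff.1 h)⟩
    · rw [Set.ncard_range_of_injective hginj, Nat.card_eq_fintype_card, Fintype.card_fin,
        Set.ncard_sdiff_singleton_of_mem C.eight.one_mem, ← Nat.card_coe_set_eq]
      simp only [SetLike.coe_sort_coe, C.card_eight, le_refl]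
  have hmove : ∀ j : ℕ, i * (x ^ j * a * (x ^ j)⁻¹) * i⁻¹ = x ^ (k * j) * a * (x ^ (k * j))⁻¹ := by
    intro j
    calc i * (x ^ j * a * (x ^ j)⁻¹) * i⁻¹
        = (i * x ^ j * i⁻¹) * (i * a * i⁻¹) * (i * x ^ j * i⁻¹)⁻¹ := by group
      _ = x ^ (k * j) * a * (x ^ (k * j))⁻¹ := by rw [← conj_pow, ← hk, ← pow_mul, hfix a ha]
  have hk7 : k % 7 = 1 ∨ k % 7 = 6 := by
    have h := Nat.mul_mod k k 7
    have hb7 : k % 7 < 7 := Nat.mod_lt _ (by norm_num)
    interval_cases (k % 7) <;> omega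
  rcases hk7 with hk1 | hk6
  · -- `i` centralises the group of order eight
    have hall : ∀ e ∈ C.eight, Commute i e := by
      intro e he
      by_cases he1 : e = 1
      · rw [he1]; exact Commute.one_right i
      obtain ⟨j, hj⟩ := himage.ge ⟨he, he1⟩
      subst hj
      refine mul_inv_eq_iff_eq_mul.1 ?_
      show i * (x ^ (j : ℕ) * a * (x ^ (j : ℕ))⁻¹) * i⁻¹ = x ^ (j : ℕ) * a * (x ^ (j : ℕ))⁻¹
      rw [hmove, hgmod (k * j), Nat.mul_mod, hk1, one_mul, Nat.mod_mod, ← hgmod]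
    obtain ⟨c, hc, e, he, hie⟩ := C.cent_eight hi hall
    have hc5 : c ^ 5 = 1 := by
      obtain ⟨l, rfl⟩ := hc
      show (y ^ l) ^ 5 = 1
      rw [← zpow_natCast, ← zpow_mul, mul_comm, zpow_mul, zpow_natCast, C.five_pow, one_zpow]
    have hce : Commute c e := ((C.commute_zpowers (C.eight_commute he) hc)).symm
    have hc2 : c * c = 1 := by
      have := h2
      rwa [hie, hce.symm.mul_mul_mul_comm, C.eight_sq he, mul_one] at this
    have hc1 : c = 1 := by
      rw [show (5 : ℕ) = 2 + 2 + 1 from rfl, pow_add, pow_add, pow_two, hc2, one_mul, one_mul,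
        pow_one] at hc5
      exact hc5
    rw [hc1, one_mul] at hie
    refine C.cyz_seven (hie ▸ he) hi1 hx h7 (Commute.symm ?_)
    refine mul_inv_eq_iff_eq_mul.1 ?_
    rw [← hk, hgmod k, hk1, pow_one]
  · obtain ⟨j, hj⟩ := himage.ge ⟨b.2, fun h => hb1 (Subtype.ext h)⟩
    have hj' : x ^ (j : ℕ) * a * (x ^ (j : ℕ))⁻¹ = b := hj
    have h := hfix b hb
    rw [← hj', hmove, hgmod (k * j)] at h
    have e := congrArg Fin.val (hginj (a₁ := ⟨k * j % 7, Nat.mod_lt _ (by norm_num)⟩) (a₂ := j) h)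
    have hj0 : (j : ℕ) = 0 := by
      have h7j := j.2
      simp only at e
      rw [Nat.mul_mod, hk6] at e
      omega
    rw [hj0, pow_zero, one_mul, inv_one, mul_one] at hj'
    exact hab (Subtype.ext hj')

theorem exists_frobenius : ∃ r ∈ normalizer (zpowers y : Set G), r ^ 4 = 1 ∧ r * y * r⁻¹ = y ^ 2 := by
  obtain ⟨m, hm, hmy⟩ := C.exists_two
  set K := centralizer ({y} : Set G) with hK
  have hyK : ∀ {g : G}, g ∈ K → Commute g y := fun h => mem_centralizer_singleton_iff.1 h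
  have : Fact (Nat.Prime 7) := ⟨by norm_num⟩
  have hcard : Nat.card ↥K = 6720 := C.card_cent
  obtain ⟨⟨x, hx⟩, hx7⟩ := exists_prime_orderOf_dvd_card' (G := ↥K) 7 (by rw [hcard]; norm_num)
  rw [Subgroup.orderOf_mk] at hx7
  have hmK : ∀ {g : G}, g ∈ K → m * g * m⁻¹ ∈ K := fun {g} hg => by
    have h := C.commute_conj hm (hyK hg)
    exact mem_centralizer_singleton_iff.2 h.eq
  -- Frattini
  have mk : ∀ (w : G) (hw : w ∈ K), orderOf w = 7 →
      ∃ S : Sylow 7 ↥K, (S : Subgroup ↥K) = zpowers (⟨w, hw⟩ : ↥K) := by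
    intro w hw h7
    have hc : Nat.card ↥(zpowers (⟨w, hw⟩ : ↥K)) = 7 := by
      rw [Nat.card_zpowers, Subgroup.orderOf_mk, h7]
    refine ⟨(IsPGroup.of_card (n := 1) (by rw [pow_one]; exact hc)).toSylow fun hd => ?_, rfl⟩
    have h := (zpowers (⟨w, hw⟩ : ↥K)).card_mul_index
    rw [hc, hcard] at h
    have hd' : 7 ∣ (zpowers (⟨w, hw⟩ : ↥K)).index := hd
    omega
  obtain ⟨S₁, hS₁⟩ := mk (m * x * m⁻¹) (hmK hx) (by
    rw [← MulAut.conj_apply, MulEquiv.orderOf_eq, hx7])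
  obtain ⟨S₂, hS₂⟩ := mk x hx hx7
  obtain ⟨c, hc⟩ := MulAction.exists_smul_eq (↥K) S₁ S₂
  have hmem : c * (⟨m * x * m⁻¹, hmK hx⟩ : ↥K) * c⁻¹ ∈ (S₂ : Subgroup ↥K) := by
    rw [← hc, Sylow.coe_subgroup_smul]
    have h : (⟨m * x * m⁻¹, hmK hx⟩ : ↥K) ∈ (S₁ : Subgroup ↥K) := hS₁ ▸ mem_zpowers _
    simpa [MulAut.smul_def, MulAut.conj_apply] using
      Subgroup.smul_mem_pointwise_smul _ (MulAut.conj c) _ h
  rw [hS₂] at hmem
  obtain ⟨l, hl⟩ := hmem
  obtain ⟨n, hn⟩ : ∃ n, n = (c : G) * m := ⟨_, rfl⟩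
  have hnx : n * x * n⁻¹ ∈ zpowers x := ⟨l, (congrArg Subtype.val hl).trans (by
    show (c : G) * (m * x * m⁻¹) * (c : G)⁻¹ = _
    rw [hn]; group)⟩
  have hny : n * y * n⁻¹ = y ^ 2 := by
    rw [hn, show (c : G) * m * y * ((c : G) * m)⁻¹ = c * (m * y * m⁻¹) * (c : G)⁻¹ by group, hmy,
      ((hyK c.2).pow_right 2).eq, mul_inv_cancel_right]
  have hnN : n ∈ normalizer (zpowers y : Set G) :=
    C.mem_normalizer_of_conj (by rw [hny]; exact pow_mem (mem_zpowers y) 2)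
  obtain ⟨a, c', hc', ho⟩ := Nat.exists_eq_pow_mul_and_not_dvd (orderOf_pos n).ne' 2 (by norm_num)
  rw [Nat.dvd_iff_mod_eq_zero] at hc'
  set r := n ^ (c' * c') with hr
  have hxn : ∀ j : ℕ, n ^ j * x * (n ^ j)⁻¹ ∈ zpowers x := by
    intro j
    induction j with
    | zero => simp
    | succ j ih =>
      obtain ⟨l, hl⟩ := ih
      rw [show n ^ (j + 1) * x * (n ^ (j + 1))⁻¹ = n * (n ^ j * x * (n ^ j)⁻¹) * n⁻¹ by
        rw [pow_succ']; group, ← show x ^ l = n ^ j * x * (n ^ j)⁻¹ from hl, ← conj_zpow]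
      exact zpow_mem hnx l
  have hry : r * y * r⁻¹ = y ^ 2 := by
    rw [hr, conj_pow_two hny]
    refine C.y_pow_eq ?_
    have h4 : c' * c' % 4 = 1 := by
      have h := Nat.mul_mod c' c' 4
      have hb : c' % 4 < 4 := Nat.mod_lt _ (by norm_num)
      interval_cases hh : c' % 4 <;> omega
    rw [← Nat.div_add_mod (c' * c') 4, h4, pow_succ, pow_mul, Nat.mul_mod, Nat.pow_mod]
    norm_num
  refine ⟨r, pow_mem hnN _, ?_, hry⟩
  by_contra h4
  have hr4y : Commute (r ^ 4) y := by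
    refine mul_inv_eq_iff_eq_mul.1 ?_
    rw [conj_pow_two hry, C.y_pow_eq (i := 2 ^ 4) (j := 1) (by norm_num), pow_one]
  have hpow : (r ^ 4) ^ 2 ^ a = 1 := by
    rw [hr, ← pow_mul, ← pow_mul, show c' * c' * (4 * 2 ^ a) = 2 ^ a * c' * (4 * c') by ring,
      pow_mul, ← ho, pow_orderOf_eq_one, one_pow]
  obtain ⟨b, -, hb⟩ := (Nat.dvd_prime_pow Nat.prime_two).1 (orderOf_dvd_of_pow_eq_one hpow)
  obtain ⟨b', rfl⟩ : ∃ b', b = b' + 1 := ⟨b - 1, by
    rcases b with _ | b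
    · exact absurd (orderOf_eq_one_iff.1 hb) h4
    · omega⟩
  set i := (r ^ 4) ^ 2 ^ b' with hi
  have hlt : 2 ^ b' < 2 ^ (b' + 1) := Nat.pow_lt_pow_right (by norm_num) (by omega)
  refine C.invol_seven (i := i) (hr4y.pow_left _) (hyK hx) ?_ ?_ hx7 ?_
  · exact pow_ne_one_of_lt_orderOf (pow_ne_zero _ (by norm_num)) (by rw [hb]; exact hlt)
  · rw [hi, ← pow_add, ← two_mul, ← pow_succ', ← hb, pow_orderOf_eq_one]
  · rw [hi, hr, ← pow_mul, ← pow_mul]
    exact hxn _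

theorem exists_R : ∃ R : Subgroup G, zpowers y ≤ R ∧ R ≤ normalizer (zpowers y : Set G) ∧
    Nat.card ↥R = 20 ∧ R ⊓ centralizer (zpowers y : Set G) = zpowers y := by
  obtain ⟨r, hrN, hr4, hry⟩ := C.exists_frobenius
  set R := zpowers r ⊔ zpowers y with hR
  have hle : R ≤ normalizer (zpowers y : Set G) := sup_le (zpowers_le.2 hrN) le_normalizer
  have hRC : R ⊓ centralizer ({y} : Set G) = zpowers y := by
    refine le_antisymm ?_ (le_inf le_sup_right (zpowers_le.2 (mem_centralizer_singleton_iff.2 rfl)))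
    intro g hg
    obtain ⟨hg, hgy⟩ := mem_inf.1 hg
    rw [← SetLike.mem_coe, hR, Subgroup.coe_mul_of_left_le_normalizer_right _ _ (zpowers_le.2 hrN)] at hg
    obtain ⟨a, ha, b, hb, rfl⟩ := hg
    obtain ⟨j, rfl⟩ := (isOfFinOrder_of_finite r).mem_powers_iff_mem_zpowers.2 ha
    have hrj : Commute (r ^ j) y := by
      have hb' : Commute b y := (C.commute_zpowers (Commute.refl y) hb).symm
      have h : Commute (r ^ j * b * b⁻¹) y := (show Commute (r ^ j * b) y from mem_centralizer_singleton_iff.1 hgy).mul_left hb'.inv_left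
      rwa [mul_inv_cancel_right] at h
    have h := C.y_pow_inj (i := 2 ^ j) (j := 1)
      (by rw [← conj_pow_two hry, hrj.eq, mul_inv_cancel_right, pow_one])
    have hj4 : j % 4 = 0 := by
      rw [← Nat.div_add_mod j 4, pow_add, pow_mul, Nat.mul_mod, Nat.pow_mod] at h
      norm_num at h
      have hb4 : j % 4 < 4 := Nat.mod_lt _ (by norm_num)
      interval_cases hh : j % 4 <;> simp_all
    rw [SetLike.mem_coe] at hb
    show r ^ j * b ∈ zpowers y
    rw [← Nat.div_add_mod j 4, hj4, add_zero, pow_mul, hr4, one_pow, one_mul]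
    exact hb
  refine ⟨R, le_sup_right, hle, ?_, by rw [C.cent_zpowers, hRC]⟩
  rw [C.card_eq_four hle (mem_sup_left (mem_zpowers r)) hry, hRC, C.card_Q]

end Ctx

end Cfsg.Agent.J4Type.Five
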