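import Cfsg.Agent.J4Type.Five.Lin
import Cfsg.Agent.J4Type.Split

/-!
# The elementary abelian group of order eight centralised by an element of order five
-/

set_option autoImplicit false

open Cfsg Subgroup

namespace Cfsg.Agent.J4Type.Five

open LargeExtra (oc oc_le oc_conj_mem)

universe u

variable {G : Type u} [Group G] [Finite G]

/-- The configuration: a group of Janko-four type, coordinates, and an element `y` of `N_H(P)` acting
as `Ym`. -/
structure Ctx (z : G) (P : Subgroup G) {V : Type*} [AddCommGroup V]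
    (π : ↥(oc z) →* Multiplicative V) (ρ : ↥(mSub z P) →* Equiv.Perm V) (q : V → ZMod 2)
    (B : List V) (y : G) (η : Equiv.Perm V) : Prop where
  D : ActData z P π ρ q
  hM : Orbits.Model B ρ.range (gammaZero ρ) q
  conf : ∃ u, Conf z u
  ymem : y ∈ mSub z P
  yact : act ρ y = η
  yfive : orderOf y = 5
  hη : Orbits.PActs B η Rep.Ym

variable {z : G} {P : Subgroup G} {V : Type*} [AddCommGroup V] {π : ↥(oc z) →* Multiplicative V}
  {ρ : ↥(mSub z P) →* Equiv.Perm V} {q : V → ZMod 2} {B : List V} {y : G} {η : Equiv.Perm V}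

namespace Ctx

variable (C : Ctx z P π ρ q B y η)
include C

theorem linFacts : LinFacts ρ.range (gammaZero ρ) q (Rep.lin B Orbits.Short.v0) (Rep.lin B 8)
    (Orbits.qSub B) := C.hM.linFacts

theorem five_pow : y ^ 5 = 1 := by rw [← C.yfive]; exact pow_orderOf_eq_one y

theorem eta_mem : η ∈ ρ.range := by rw [← C.yact, act_of_mem C.ymem]; exact ⟨_, rfl⟩

theorem ne_twist {b : G} (hcz : b * z = z * b) (h : y * b * y⁻¹ = b * z) : False := by
  have hyz : y * z = z * y := (C.D.comm_z C.ymem.1).eq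
  have key : ∀ n : ℕ, y ^ n * b * (y ^ n)⁻¹ = b * z ^ n := by
    intro n
    induction n with
    | zero => simp
    | succ n ih =>
      calc y ^ (n + 1) * b * (y ^ (n + 1))⁻¹ = y * (y ^ n * b * (y ^ n)⁻¹) * y⁻¹ := by
            rw [pow_succ']; group
        _ = y * b * y⁻¹ * (y * z ^ n * y⁻¹) := by rw [ih]; group
        _ = b * z * z ^ n := by
            rw [h, ((show Commute y z from hyz).pow_right n).eq, mul_inv_cancel_right]
        _ = b * z ^ (n + 1) := by rw [pow_succ', mul_assoc]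
  have h5 := key 5
  rw [C.five_pow, one_mul, inv_one, mul_one, show z ^ 5 = z * z * (z * z) * z by
    simp only [pow_succ, pow_zero, one_mul, mul_assoc], C.D.zz, one_mul, one_mul] at h5
  exact C.D.z_ne (left_eq_mul.1 h5)

/-- An element whose conjugate by `y` is itself up to `z` commutes with `y`. -/
theorem commute_of_mod {b : G} (hcz : b * z = z * b) (h : y * b * y⁻¹ = b ∨ y * b * y⁻¹ = b * z) :
    Commute b y := by
  rcases h with h | h
  · exact (mul_inv_eq_iff_eq_mul.1 h).symm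
  · exact (C.ne_twist hcz h).elim

theorem commute_oc_iff {e : G} (he : e ∈ oc z) : Commute e y ↔ η (vec π e) = vec π e := by
  rw [← C.yact, ← C.D.vec_conj C.ymem he]
  refine ⟨fun h => by rw [← h.eq, mul_inv_cancel_right], fun h => ?_⟩
  exact C.commute_of_mod (C.D.comm_z (oc_le z he)).eq (C.D.vec_eq (C.D.conj_mem C.ymem.1 he) he h)

theorem commute_of_act {m : G} (hm : m ∈ mSub z P) (h : act ρ m * η = η * act ρ m) : Commute m y := by
  refine C.commute_of_mod (C.D.comm_z hm.1).eq ?_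
  have hy := C.ymem
  have hc : y * m * y⁻¹ ∈ mSub z P := mul_mem (mul_mem hy hm) (inv_mem hy)
  have h1 : act ρ (m⁻¹ * (y * m * y⁻¹)) = 1 := by
    rw [act_mul (inv_mem hm) hc, act_inv hm, act_mul (mul_mem hy hm) (inv_mem hy), act_mul hy hm,
      act_inv hy, C.yact, ← h, mul_inv_cancel_right, inv_mul_cancel]
  rcases (C.D.act_eq_one (mul_mem (inv_mem hm) hc)).1 h1 with h2 | h2
  · exact Or.inl (inv_mul_eq_one.1 h2).symm
  · exact Or.inr (inv_mul_eq_iff_eq_mul.1 h2)

/-- The linear and translation parts of an element of `C_H(y)`. -/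
theorem parts {h : G} (hh : h ∈ centralizer ({z} : Set G)) (hc : Commute h y) :
    lin ρ h * η = η * lin ρ h ∧ η (trans π P h) = trans π P h := by
  obtain ⟨hl, ht⟩ := C.D.lin_mul hh C.ymem.1
  obtain ⟨hl', ht'⟩ := C.D.lin_mul C.ymem.1 hh
  obtain ⟨e1, e2⟩ := C.D.lin_mSub C.ymem
  rw [e1, C.yact] at hl hl' ht'
  rw [e2] at ht ht'
  refine ⟨by rw [← hl, hc.eq, hl'], ?_⟩
  have h0 : lin ρ h 0 = 0 := by
    have := C.D.lin_add hh 0 0
    rw [add_zero] at this
    exact left_eq_add.1 this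
  rw [h0, add_zero] at ht
  rw [zero_add] at ht'
  rw [← ht', ← hc.eq, ht]

theorem lin_code {h : G} (hh : h ∈ centralizer ({z} : Set G)) (hc : Commute h y) :
    ∃ M ∈ centY, Orbits.PActs B (lin ρ h) M :=
  cent_code C.hM C.hη (C.D.lin_mem hh) (C.parts hh hc).1

end Ctx

/-- The elements of `O₂(C(z))` whose vector lies on the line. -/
def eightSet (π : ↥(oc z) →* Multiplicative V) (B : List V) : Set G :=
  {e | e ∈ oc z ∧ ∃ r ∈ lineL, vec π e = Rep.lin B r}

namespace Ctx

variable (C : Ctx z P π ρ q B y η)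
include C

theorem line_lt {r : ℕ} (hr : r ∈ lineL) : r < 4096 := by
  simp only [lineL, List.mem_cons, List.not_mem_nil, or_false] at hr
  omega

theorem line_xor {r s : ℕ} (hr : r ∈ lineL) (hs : s ∈ lineL) : r ^^^ s ∈ lineL := by
  have := List.all_eq_true.1 lineL_facts r hr
  simp only [Bool.and_eq_true, List.all_eq_true, Bool.not_eq_true'] at this
  exact memB_iff.1 (this.2 s hs).1

theorem line_sing {r : ℕ} (hr : r ∈ lineL) : q (Rep.lin B r) = 0 := by
  have := List.all_eq_true.1 lineL_facts r hr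
  simp only [Bool.and_eq_true, Nat.beq_eq] at this
  rw [C.hM.q_eq r (C.line_lt hr), this.1.2, Nat.cast_zero]

theorem line_fixed {r : ℕ} (hr : r ∈ lineL) : η (Rep.lin B r) = Rep.lin B r := by
  have := List.all_eq_true.1 lineL_facts r hr
  simp only [Bool.and_eq_true, List.all_eq_true] at this
  exact (fixed_iff C.hM C.hη (C.line_lt hr)).2 (memB_iff.1 this.1.1.2)

/-- The subgroup of order eight. -/
def eight : Subgroup G where
  carrier := eightSet π B
  one_mem' := ⟨one_mem _, 0, by simp [lineL], by rw [vec_one, Rep.lin_zero]⟩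
  mul_mem' := by
    rintro a b ⟨ha, r, hr, ea⟩ ⟨hb, s, hs, eb⟩
    exact ⟨mul_mem ha hb, r ^^^ s, C.line_xor hr hs, by rw [vec_mul ha hb, ea, eb, C.hM.lin_add]⟩
  inv_mem' := by
    rintro a ⟨ha, r, hr, ea⟩
    exact ⟨inv_mem ha, r, hr, by rw [C.D.vec_inv ha, ea]⟩

theorem mem_eight {e : G} : e ∈ C.eight ↔ e ∈ oc z ∧ ∃ r ∈ lineL, vec π e = Rep.lin B r := Iff.rfl

theorem z_mem_eight : z ∈ C.eight :=
  ⟨C.D.z_mem, 0, by simp [lineL], by rw [C.D.vec_z, Rep.lin_zero]⟩

theorem eight_commute {e : G} (he : e ∈ C.eight) : Commute e y := by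
  obtain ⟨he, r, hr, h⟩ := he
  rw [C.commute_oc_iff he, h, C.line_fixed hr]

theorem eight_sq {e : G} (he : e ∈ C.eight) : e * e = 1 := by
  obtain ⟨he, r, hr, h⟩ := he
  rw [C.D.sq_eq_one he, h, C.line_sing hr]

theorem eight_comm {a b : G} (ha : a ∈ C.eight) (hb : b ∈ C.eight) : Commute a b := by
  have ia : a⁻¹ = a := inv_eq_of_mul_eq_one_right (C.eight_sq ha)
  have ib : b⁻¹ = b := inv_eq_of_mul_eq_one_right (C.eight_sq hb)
  have h := inv_eq_of_mul_eq_one_right (C.eight_sq (mul_mem ha hb))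
  rw [mul_inv_rev, ia, ib] at h
  exact h.symm

theorem vec_eight_ne {e : G} (he : e ∈ C.eight) (h1 : e ≠ 1) (hz : e ≠ z) :
    ∃ r ∈ lineL, r ≠ 0 ∧ vec π e = Rep.lin B r := by
  obtain ⟨he', r, hr, h⟩ := he
  refine ⟨r, hr, fun h0 => ?_, h⟩
  rw [h0, Rep.lin_zero] at h
  rcases (C.D.vec_eq_zero he').1 h with e' | e'
  exacts [h1 e', hz e']

/-- A conjugate of `z` in `O₂(C(z))` commuting with `y` lies in the group of order eight. -/
theorem mem_eight_of_conj {e : G} (he : e ∈ oc z) (hc : Commute e y) (hconj : ∃ g, g * z * g⁻¹ = e) :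
    e ∈ C.eight := by
  by_cases hz : e = z
  · rw [hz]; exact C.z_mem_eight
  have hcf : Conf z e := ⟨he, hz, hconj⟩
  have L := C.linFacts
  obtain ⟨γ, hγ, hγv, -⟩ := L.stab _ (hcf.vec_ne C.D) (hcf.vec_sing C.D) _ (hcf.image_le C.D)
    (hcf.image_fix C.D) (hcf.image_normal C.D) (hcf.image_sq C.D) (hcf.image_big C.D)
  obtain ⟨r, hr, hre⟩ := C.hM.code_cases (vec π e)
  refine ⟨he, r, mem_line C.hM C.hη hγ hr ?_ (by rw [hre]; exact hγv), hre.symm⟩
  rw [hre]
  exact (C.commute_oc_iff he).1 hc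

/-- A non-central element of the group of order eight is a conjugate of `z`, in the normal position
after moving it by a listed element. -/
theorem conf_eight {e : G} (he : e ∈ C.eight) (h1 : e ≠ 1) (hz : e ≠ z) : Conf z e := by
  obtain ⟨r, hr, hr0, h⟩ := C.vec_eight_ne he h1 hz
  obtain ⟨u, hu⟩ := C.conf
  obtain ⟨u', hc', hv', -⟩ := exists_normal_conf C.linFacts hu C.D
  obtain ⟨γ, hγ, hd⟩ := short_of_mem C.hM hr hr0
  obtain ⟨⟨m, hm⟩, -, rfl⟩ := hγ
  have hm' : m ∈ mSub z P := hm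
  have hv : vec π (m * u' * m⁻¹) = vec π e := by
    rw [C.D.vec_conj hm' hc'.mem, act_of_mem hm', hv', h]
    exact hd
  obtain ⟨g, hg⟩ := hc'.conj
  refine ⟨he.1, hz, ?_⟩
  rcases C.D.vec_eq he.1 (oc_conj_mem hm'.1 hc'.mem) hv.symm with h' | h'
  · exact ⟨m * g, by rw [h', ← hg]; group⟩
  · have hne : m * u' * m⁻¹ ≠ 1 := fun h0 => hc'.ne_one C.D (conj_eq_one_iff.1 h0)
    have hnz : m * u' * m⁻¹ ≠ z := fun h0 => by
      apply h1
      rw [h', h0, C.D.zz]
    obtain ⟨f, hf, hfe⟩ := C.D.set'.exists_mover (oc_conj_mem hm'.1 hc'.mem) hne hnz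
    exact ⟨f * m * g, by rw [h', ← hfe, ← hg]; group⟩

theorem eight_conj {e : G} (he : e ∈ C.eight) (h1 : e ≠ 1) : ∃ g, g * z * g⁻¹ = e := by
  by_cases hz : e = z
  · exact ⟨1, by rw [hz]; group⟩
  · exact (C.conf_eight he h1 hz).conj

/-- **The intersection of two cores inside the centraliser of `y`.** -/
theorem oc_inter {e f : G} (he : e ∈ C.eight) (h1 : e ≠ 1) (hz : e ≠ z) (hf : f ∈ oc z)
    (hfy : Commute f y) : f ∈ oc e ↔ f ∈ C.eight := by
  obtain ⟨r, hr, hr0, hre⟩ := C.vec_eight_ne he h1 hz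
  have hmv := List.all_eq_true.1 moveW_ok.1 r hr
  simp only [Bool.or_eq_true, Nat.beq_eq, hr0, false_or, List.any_eq_true, Bool.and_eq_true] at hmv
  obtain ⟨p, hp, hp1, hp2⟩ := hmv
  obtain ⟨γ, hγ, hd⟩ := C.hM.word p.2
  obtain ⟨⟨m, hm⟩, -, rfl⟩ := hγ
  have hm' : m ∈ mSub z P := hm
  have hact : act ρ m = ρ ⟨m, hm⟩ := act_of_mem hm'
  have hcf := C.conf_eight he h1 hz
  obtain ⟨g, hg⟩ := hcf.conj
  have hc' : Conf z (m * e * m⁻¹) := ⟨oc_conj_mem hm'.1 he.1, fun h => hz (by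
    have := mul_inv_eq_iff_eq_mul.1 h
    rw [(C.D.comm_z hm'.1).eq.symm] at this
    exact mul_left_cancel this), ⟨m * g, by rw [← hg]; group⟩⟩
  have hv : vec π (m * e * m⁻¹) = Rep.lin B Orbits.Short.v0 := by
    rw [C.D.vec_conj hm' he.1, hact, hre, hd, hp2]
  have N : NConf C.D (Rep.lin B Orbits.Short.v0) (Orbits.qSub B) (m * e * m⁻¹) := by
    refine ⟨hc', hv, ?_⟩
    have : Finite V := C.hM.fin
    have L := C.linFacts
    obtain ⟨δ, hδ, hδv, hδa⟩ := L.stab _ (hc'.vec_ne C.D) (hc'.vec_sing C.D) _ (hc'.image_le C.D)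
      (hc'.image_fix C.D) (hc'.image_normal C.D) (hc'.image_sq C.D) (hc'.image_big C.D)
    refine eq_of_le_of_card_ge (fun a ha => ?_) (by rw [L.Q_card]; exact hc'.image_big C.D)
    have hinv : δ⁻¹ (vec π (m * e * m⁻¹)) = vec π (m * e * m⁻¹) := by
      conv_lhs => arg 2; rw [hv, ← hδv]
      rw [Equiv.Perm.inv_def, Equiv.symm_apply_apply]
    have h1 := hδa _ (hc'.image_normal C.D δ⁻¹ (inv_mem hδ) hinv a ha)
    rwa [inv_inv, show δ * (δ⁻¹ * a * δ) * δ⁻¹ = a by group] at h1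
  obtain ⟨s, hs, hsf⟩ := C.hM.code_cases (vec π f)
  have hfm : m * f * m⁻¹ ∈ oc z := oc_conj_mem hm'.1 hf
  have hkey : f ∈ oc e ↔ Rep.lin B (Rep.app (Orbits.code p.2) s) ∈
      kernelSet q (Orbits.qSub B) (Rep.lin B Orbits.Short.v0) := by
    have h := N.mem_inter_iff C.linFacts hfm
    rw [C.D.vec_conj hm' hf, hact, ← hsf, hd s] at h
    rw [← h, mem_inf, and_iff_right hfm, ← LargeExtra.oc_map_conj, mem_map]
    constructor
    · exact fun hfe => ⟨f, hfe, rfl⟩
    · rintro ⟨f', hf', e'⟩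
      have : m * f' * m⁻¹ = m * f * m⁻¹ := e'
      rwa [mul_left_cancel (mul_right_cancel this)] at hf'
  rw [hkey, C.hM.kernelSet_qSub]
  have hfix : s ∈ fixL := (fixed_iff C.hM C.hη hs).1 (by rw [hsf]; exact (C.commute_oc_iff hf).1 hfy)
  have hp' := List.all_eq_true.1 moveW_ok.2 p hp
  simp only [Bool.and_eq_true, List.all_eq_true] at hp'
  have hlt : Rep.app (Orbits.code p.2) s < 4096 := Orbits.app_lt_of_good (Orbits.good_code _) s
  constructor
  · rintro ⟨k, hk, hks⟩
    have hk' : k < 4096 := by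
      have := List.all_eq_true.1 Orbits.kList_lt k hk
      simpa [Nat.blt_eq] using this
    rw [C.hM.lin_inj hk' hlt hks] at hk
    have h := hp'.2 s hfix
    rw [memB_iff.2 hk] at h
    simp only [Bool.not_true, Bool.false_or] at h
    exact ⟨hf, s, memB_iff.1 h, hsf.symm⟩
  · rintro ⟨-, t, ht, hft⟩
    rw [← hsf] at hft
    rw [C.hM.lin_inj hs (C.line_lt ht) hft]
    exact ⟨_, memB_iff.1 (hp'.1 t ht), rfl⟩

theorem card_eight : Nat.card ↥C.eight = 8 := by
  classical
  let f : ↥C.eight → Multiplicative V := fun e => Multiplicative.ofAdd (vec π (e : G))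
  let F : ↥C.eight →* Multiplicative V := MonoidHom.mk' f fun a b => by
    show Multiplicative.ofAdd (vec π ((a : G) * b)) = _
    rw [vec_mul a.2.1 b.2.1, ofAdd_add]
  have hrange : (F.range : Set (Multiplicative V)) =
      ↑(lineL.toFinset.image fun r => Multiplicative.ofAdd (Rep.lin B r)) := by
    ext v
    simp only [SetLike.mem_coe, MonoidHom.mem_range, Finset.coe_image, Set.mem_image, List.mem_toFinset,
      List.coe_toFinset, Set.mem_setOf_eq]
    constructor
    · rintro ⟨⟨e, he, r, hr, h⟩, rfl⟩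
      exact ⟨r, hr, congrArg Multiplicative.ofAdd h.symm⟩
    · rintro ⟨r, hr, rfl⟩
      obtain ⟨e, he, hv⟩ := C.D.exists_vec (Rep.lin B r)
      exact ⟨⟨e, he, r, hr, hv⟩, congrArg Multiplicative.ofAdd hv⟩
  have hr : Nat.card ↥F.range = 4 := by
    rw [← SetLike.coe_sort_coe, Nat.card_coe_set_eq, hrange, Set.ncard_coe_finset,
      Finset.card_image_of_injOn]
    · decide
    · intro a ha b hb e
      simp only [Finset.mem_coe, List.mem_toFinset] at ha hb
      exact C.hM.lin_inj (C.line_lt ha) (C.line_lt hb) (Multiplicative.ofAdd.injective e)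
  have hk : Nat.card ↥F.ker = 2 := by
    have e : F.ker = (zpowers z).subgroupOf C.eight := by
      ext a
      rw [MonoidHom.mem_ker, mem_subgroupOf, C.D.mem_zp, ← C.D.vec_eq_zero a.2.1]
      exact ofAdd_eq_one
    rw [e, Nat.card_congr (subgroupOfEquivOfLe (zpowers_le.2 C.z_mem_eight)).toEquiv, Nat.card_zpowers,
      C.D.set'.ord]
  rw [← F.ker.card_mul_index, Subgroup.index_ker, hk, hr]

end Ctx

end Cfsg.Agent.J4Type.Five
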