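import Cfsg.Agent.J4Type.Five.Setting
import Cfsg.Agent.J4Type.NormP

/-!
# Elements of order five of `C(z)` and conjugates of `z` in the group of order eight
-/

set_option autoImplicit false

open Cfsg Subgroup

namespace Cfsg.Agent.J4Type.Five

open LargeExtra (oc oc_le oc_conj_mem)

universe u

variable {G : Type u} [Group G] [Finite G]

/-- Orbit and stabiliser for conjugation of an element. -/
theorem card_conj_orbit (K : Subgroup G) (x : G) :
    Nat.card ↥K = {e : G | ∃ k ∈ K, k * x * k⁻¹ = e}.ncard *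
      Nat.card ↥(K ⊓ centralizer ({x} : Set G)) := by
  set L := (centralizer ({x} : Set G)).subgroupOf K with hL
  have hiff : ∀ a b : ↥K, a⁻¹ * b ∈ L ↔ (a : G) * x * (a : G)⁻¹ = b * x * (b : G)⁻¹ := by
    intro a b
    rw [hL, mem_subgroupOf, mem_centralizer_singleton_iff, coe_mul, coe_inv]
    constructor
    · intro h
      calc (a : G) * x * (a : G)⁻¹ = a * (x * ((a : G)⁻¹ * b)) * (b : G)⁻¹ := by group
        _ = b * x * (b : G)⁻¹ := by rw [← h]; group
    · intro h
      calc (a : G)⁻¹ * b * x = (a : G)⁻¹ * (b * x * (b : G)⁻¹) * b := by group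
        _ = x * ((a : G)⁻¹ * b) := by rw [← h]; group
  let φ : ↥K ⧸ L → {e : G | ∃ k ∈ K, k * x * k⁻¹ = e} :=
    Quotient.lift (fun k => ⟨(k : G) * x * (k : G)⁻¹, k, k.2, rfl⟩)
      fun a b h => Subtype.ext ((hiff a b).1 (QuotientGroup.leftRel_apply.1 h))
  have hb : Function.Bijective φ := by
    constructor
    · intro p q
      refine Quotient.inductionOn₂ p q fun a b h => Quotient.sound ?_
      exact QuotientGroup.leftRel_apply.2 ((hiff a b).2 (congrArg Subtype.val h))
    · rintro ⟨e, k, hk, rfl⟩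
      exact ⟨Quotient.mk'' ⟨k, hk⟩, rfl⟩
  have e1 : L = (K ⊓ centralizer ({x} : Set G)).subgroupOf K := by rw [inf_subgroupOf_left]
  rw [card_eq_card_quotient_mul_card_subgroup L, Nat.card_congr (Equiv.ofBijective φ hb),
    Nat.card_coe_set_eq, e1, Nat.card_congr (subgroupOfEquivOfLe inf_le_left).toEquiv]

variable {z : G} {P : Subgroup G} {V : Type*} [AddCommGroup V]
  {π : ↥(oc z) →* Multiplicative V} {ρ : ↥(mSub z P) →* Equiv.Perm V} {q : V → ZMod 2} {B : List V}
  {y : G} {η : Equiv.Perm V}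

namespace Ctx

variable (C : Ctx z P π ρ q B y η)
include C

theorem card_zero : Nat.card ↥(gammaZero ρ) = 1330560 := C.hM.card

/-- A subgroup of odd order of `C(z)` has order dividing that of `3.M₂₂`. -/
theorem odd_dvd {S : Subgroup G} (hS : S ≤ centralizer ({z} : Set G)) (ho : Odd (Nat.card ↥S)) :
    Nat.card ↥S ∣ 1330560 := by
  let f : ↥S →* Equiv.Perm V := (ActData.linHom C.D).comp (inclusion hS)
  have hoo : ∀ s : ↥S, Odd (orderOf (s : G)) := fun s => by
    rw [orderOf_coe]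
    exact ho.of_dvd_nat (orderOf_dvd_natCard s)
  have hinj : Function.Injective f := by
    refine (injective_iff_map_eq_one f).2 fun s hs => ?_
    have he : (s : G) ∈ oc z := (C.D.lin_eq_one (hS s.2)).1 hs
    have h2 : orderOf (s : G) ∣ 2 ^ 13 := by
      have h := orderOf_dvd_natCard (⟨(s : G), he⟩ : ↥(oc z))
      rwa [Subgroup.orderOf_mk, show Nat.card ↥(oc z) = 2 ^ 13 from C.D.hJ.2.2.1] at h
    obtain ⟨k, -, hk⟩ := (Nat.dvd_prime_pow Nat.prime_two).1 h2
    have h1 := hoo s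
    rw [hk] at h1
    refine Subtype.ext (orderOf_eq_one_iff.1 ?_)
    rcases eq_or_ne k 0 with rfl | h0
    · simpa using hk
    · rw [Nat.odd_pow_iff h0] at h1
      exact absurd h1 (by decide)
  rw [Nat.card_congr (MonoidHom.ofInjective hinj).toEquiv, ← C.card_zero]
  refine card_dvd_of_le ?_
  rintro _ ⟨s, rfl⟩
  exact (C.D.lin_odd (hS s.2) (hoo s)).1

theorem not_25_dvd : ¬ 25 ∣ Nat.card ↥(centralizer ({z} : Set G)) := by
  intro h
  have : Fact (Nat.Prime 5) := ⟨by norm_num⟩
  obtain ⟨S, hS⟩ := Sylow.exists_subgroup_card_pow_prime 5 (n := 2) (by norm_num; exact h)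
  have hm := C.odd_dvd (S := S.map (centralizer ({z} : Set G)).subtype) (map_subtype_le S)
    (by rw [card_map_of_injective (subtype_injective _), hS]; decide)
  rw [card_map_of_injective (subtype_injective _), hS] at hm
  omega

/-- **The elements of order five of `C(z)` are conjugate into `⟨y⟩`.** -/
theorem five_conj {x : G} (hx : x ∈ centralizer ({z} : Set G)) (h5 : orderOf x = 5) :
    ∃ h ∈ centralizer ({z} : Set G), h * x * h⁻¹ ∈ zpowers y := by
  have : Fact (Nat.Prime 5) := ⟨by norm_num⟩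
  set H := centralizer ({z} : Set G) with hH
  have mk : ∀ (w : G) (hw : w ∈ H), orderOf w = 5 →
      ∃ P5 : Sylow 5 ↥H, (P5 : Subgroup ↥H) = zpowers (⟨w, hw⟩ : ↥H) := by
    intro w hw hw5
    have hc : Nat.card ↥(zpowers (⟨w, hw⟩ : ↥H)) = 5 := by
      rw [Nat.card_zpowers, Subgroup.orderOf_mk, hw5]
    refine ⟨(IsPGroup.of_card (n := 1) (by rw [pow_one]; exact hc)).toSylow fun hd => ?_, rfl⟩
    apply C.not_25_dvd
    rw [← hH, ← (zpowers (⟨w, hw⟩ : ↥H)).card_mul_index, hc]
    exact Nat.mul_dvd_mul_left 5 hd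
  obtain ⟨P1, hP1⟩ := mk x hx h5
  obtain ⟨P2, hP2⟩ := mk y C.ymem.1 C.yfive
  obtain ⟨h, hh⟩ := MulAction.exists_smul_eq (↥H) P1 P2
  refine ⟨h, h.2, ?_⟩
  have hmem : h * (⟨x, hx⟩ : ↥H) * h⁻¹ ∈ (P2 : Subgroup ↥H) := by
    rw [← hh, Sylow.coe_subgroup_smul]
    have hxP : (⟨x, hx⟩ : ↥H) ∈ (P1 : Subgroup ↥H) := hP1 ▸ mem_zpowers _
    simpa [MulAut.smul_def, MulAut.conj_apply] using
      Subgroup.smul_mem_pointwise_smul _ (MulAut.conj h) _ hxP
  rw [hP2] at hmem
  obtain ⟨k, hk⟩ := hmem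
  exact ⟨k, congrArg Subtype.val hk⟩

theorem card_Q : Nat.card ↥(zpowers y) = 5 := by rw [Nat.card_zpowers, C.yfive]

theorem mem_normalizer_of_conj {g : G} (h : g * y * g⁻¹ ∈ zpowers y) :
    g ∈ normalizer (zpowers y : Set G) := by
  have hle : (zpowers y).map (MulAut.conj g).toMonoidHom ≤ zpowers y := by
    rw [MonoidHom.map_zpowers]
    exact zpowers_le.2 h
  have he := eq_of_le_of_card_ge hle (by
    rw [card_map_of_injective (MulAut.conj g).injective])
  refine mem_normalizer_iff.2 fun w => ⟨fun hw => hle ⟨w, hw, rfl⟩, fun hw => ?_⟩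
  rw [← he] at hw
  obtain ⟨w', hw', e⟩ := hw
  have : w' = w := (MulAut.conj g).injective e
  exact this ▸ hw'

theorem commute_zpowers {e : G} (he : Commute e y) {w : G} (hw : w ∈ zpowers y) : Commute e w := by
  obtain ⟨k, rfl⟩ := hw
  exact he.zpow_right k

theorem commute_conj {g e : G} (hg : g ∈ normalizer (zpowers y : Set G)) (he : Commute e y) :
    Commute (g * e * g⁻¹) y := by
  have h : g⁻¹ * y * g ∈ zpowers y := by
    have := (mem_normalizer_iff.1 ((normalizer (zpowers y : Set G)).inv_mem hg) y).1 (mem_zpowers y)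
    rwa [inv_inv] at this
  have h2 := (C.commute_zpowers he h).map (MulAut.conj g).toMonoidHom
  simp only [MulEquiv.coe_toMonoidHom, MulAut.conj_apply] at h2
  rwa [show g * (g⁻¹ * y * g) * g⁻¹ = y by group] at h2

/-- A conjugate of `z` in the group of order eight is obtained by an element normalising `⟨y⟩` and the
group of order eight. -/
theorem exists_conj_eight {u : G} (hu : u ∈ C.eight) (h1 : u ≠ 1) (hz : u ≠ z) :
    ∃ g, g ∈ normalizer (zpowers y : Set G) ∧ g ∈ normalizer (C.eight : Set G) ∧ g * z * g⁻¹ = u := by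
  obtain ⟨g₀, hg₀⟩ := (C.conf_eight hu h1 hz).conj
  have hyu : Commute u y := C.eight_commute hu
  have hx : g₀⁻¹ * y * g₀ ∈ centralizer ({z} : Set G) := by
    refine mem_centralizer_singleton_iff.2 ?_
    have := hyu.map (MulAut.conj g₀⁻¹).toMonoidHom
    simp only [MulEquiv.coe_toMonoidHom, MulAut.conj_apply, inv_inv] at this
    rw [← hg₀, show g₀⁻¹ * (g₀ * z * g₀⁻¹) * g₀ = z by group] at this
    exact this.symm.eq
  have h5 : orderOf (g₀⁻¹ * y * g₀) = 5 := by
    have := MulEquiv.orderOf_eq (MulAut.conj g₀⁻¹) y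
    rwa [MulAut.conj_apply, inv_inv, C.yfive] at this
  obtain ⟨h, hh, hhy⟩ := C.five_conj hx h5
  set g := g₀ * h⁻¹ with hg
  have hgz : g * z * g⁻¹ = u := by
    have hzc : h * z = z * h := mem_centralizer_singleton_iff.1 hh
    rw [hg, ← hg₀, show g₀ * h⁻¹ * z * (g₀ * h⁻¹)⁻¹ = g₀ * (h⁻¹ * (z * h)) * g₀⁻¹ by group, ← hzc]
    group
  have hgN : g ∈ normalizer (zpowers y : Set G) := by
    have h' : g⁻¹ ∈ normalizer (zpowers y : Set G) := C.mem_normalizer_of_conj (by
      rw [show g⁻¹ * y * g⁻¹⁻¹ = h * (g₀⁻¹ * y * g₀) * h⁻¹ by rw [hg]; group]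
      exact hhy)
    simpa using (normalizer (zpowers y : Set G)).inv_mem h'
  refine ⟨g, hgN, ?_, hgz⟩
  have hle : C.eight.map (MulAut.conj g⁻¹).toMonoidHom ≤ C.eight := by
    rintro _ ⟨e, he, rfl⟩
    simp only [MulEquiv.coe_toMonoidHom, MulAut.conj_apply, inv_inv]
    by_cases he1 : e = 1
    · subst he1
      simp
    have hy' : Commute (g⁻¹ * e * g) y := by
      have := C.commute_conj ((normalizer (zpowers y : Set G)).inv_mem hgN) (C.eight_commute he)
      rwa [inv_inv] at this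
    have heu : e ∈ oc u := (C.oc_inter hu h1 hz he.1 (C.eight_commute he)).2 he
    rw [← hgz, ← LargeExtra.oc_map_conj] at heu
    obtain ⟨e', he', hee⟩ := heu
    have hee' : g * e' * g⁻¹ = e := hee
    refine C.mem_eight_of_conj (by rw [← hee']; simpa [mul_assoc] using he') hy' ?_
    obtain ⟨k, hk⟩ := C.eight_conj he he1
    exact ⟨g⁻¹ * k, by rw [← hk]; group⟩
  have he := eq_of_le_of_card_ge hle (by rw [card_map_of_injective (MulAut.conj g⁻¹).injective])
  have h' : g⁻¹ ∈ normalizer (C.eight : Set G) := by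
    refine mem_normalizer_iff.2 fun w => ⟨fun hw => hle ⟨w, hw, rfl⟩, fun hw => ?_⟩
    rw [← he] at hw
    obtain ⟨w', hw', e⟩ := hw
    have : w' = w := (MulAut.conj g⁻¹).injective e
    exact this ▸ hw'
  simpa using (normalizer (C.eight : Set G)).inv_mem h'

end Ctx

end Cfsg.Agent.J4Type.Five
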